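import Groth.Agent.Lib.Helper1.AffineDescent
import Mathlib.RingTheory.Finiteness.Descent
import Mathlib.RingTheory.RingHom.Integral
import Mathlib.RingTheory.Flat.FaithfullyFlat.Descent

set_option autoImplicit false
open CategoryTheory CategoryTheory.Limits AlgebraicGeometry Opposite MorphismProperty
universe u
open TensorProduct

namespace Groth.Agent.Lib.Helper1

theorem isIntegral_of_isIntegral_tensorProduct_of_faithfullyFlat
    {R S T : Type*} [CommRing R] [CommRing S] [CommRing T] [Algebra R S] [Algebra R T]
    [Module.FaithfullyFlat R S] (h : (algebraMap S (S ⊗[R] T)).IsIntegral) :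
    (algebraMap R T).IsIntegral := by
  intro t
  let A : Subalgebra R T := Algebra.adjoin R {t}
  let tA : A := ⟨t, Algebra.subset_adjoin (Set.mem_singleton t)⟩
  have hA : Algebra.adjoin R {tA} = ⊤ := by
    have := Algebra.adjoin_adjoin_coe_preimage (R := R) (s := ({t} : Set T))
    convert this using 2
    ext x
    simp [tA, Subtype.ext_iff]
  have htop : Algebra.adjoin S {(1 : S) ⊗ₜ[R] tA} = ⊤ := by
    have := Algebra.TensorProduct.adjoin_one_tmul_image_eq_top (A := S) ({tA} : Set A) hA
    simpa using this
  let j : S ⊗[R] A →ₐ[S] S ⊗[R] T := Algebra.TensorProduct.map (AlgHom.id S S) A.val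
  have hj : Function.Injective j := by
    have : Function.Injective (LinearMap.lTensor S A.val.toLinearMap) :=
      Module.Flat.lTensor_preserves_injective_linearMap _ Subtype.val_injective
    intro x y hxy
    apply this
    exact hxy
  have hint : IsIntegral S ((1 : S) ⊗ₜ[R] tA) := by
    rw [← isIntegral_algHom_iff j hj]
    have : j ((1 : S) ⊗ₜ[R] tA) = (1 : S) ⊗ₜ[R] t := by simp [j, tA]
    rw [this]
    exact h _
  have hfin : Module.Finite S (S ⊗[R] A) := by
    have := hint.fg_adjoin_singleton
    rw [htop, Algebra.top_toSubmodule] at this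
    exact ⟨this⟩
  have hfinA : Module.Finite R A := Module.Finite.of_finite_tensorProduct_of_faithfullyFlat S
  exact IsIntegral.of_mem_of_fg A (Module.Finite.iff_fg.mp hfinA) t tA.2

theorem isIntegral_codescendsAlong_faithfullyFlat :
    RingHom.CodescendsAlong (fun f => RingHom.IsIntegral f) RingHom.FaithfullyFlat := by
  refine .mk _ RingHom.isIntegral_respectsIso fun R S T _ _ _ _ _ h h' ↦ ?_
  rw [RingHom.faithfullyFlat_algebraMap_iff] at h
  exact isIntegral_of_isIntegral_tensorProduct_of_faithfullyFlat h'

theorem descendsAlong_of_affineAnd_fpqc (P : MorphismProperty Scheme.{u}) [P.IsStableUnderBaseChange]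
    {Q : ∀ {R S : Type u} [CommRing R] [CommRing S], (R →+* S) → Prop}
    (hP : HasAffineProperty P (affineAnd Q))
    (hQ : RingHom.RespectsIso Q) (hQQ' : RingHom.CodescendsAlong Q RingHom.FaithfullyFlat) :
    P.DescendsAlong (@Surjective ⊓ @Flat ⊓ @QuasiCompact : MorphismProperty Scheme.{u}) := by
  have H₁ : (@IsLocalIso ⊓ @Surjective : MorphismProperty Scheme.{u}) ≤
      (@Surjective ⊓ @Flat : MorphismProperty Scheme.{u}) := by
    rw [inf_comm]
    exact inf_le_inf le_rfl (IsLocalIso.le_of_isZariskiLocalAtSource _)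
  have H₂ : ∀ {R S : CommRingCat.{u}} {f : R ⟶ S},
      (@Surjective ⊓ @Flat : MorphismProperty Scheme.{u}) (Spec.map f) → RingHom.FaithfullyFlat f.hom := by
    intro _ _ f hf
    rwa [← flat_and_surjective_SpecMap_iff, and_comm]
  apply IsZariskiLocalAtTarget.descendsAlong_inf_quasiCompact _ _ H₁
  introv h hf
  have : IsAffine Y := isAffine_of_fpqc_pullback φ g h
    (AlgebraicGeometry.HasAffineProperty.affineAnd_le_isAffineHom P inferInstance _ hf)
  wlog hY : ∃ S, Y = Spec S generalizing Y
  · rw [← P.cancel_left_of_respectsIso Y.isoSpec.inv]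
    have heq : pullback.fst (Spec.map φ) (Y.isoSpec.inv ≫ g) =
        pullback.map _ _ _ _ (𝟙 _) (Y.isoSpec.inv) (𝟙 _) (by simp) (by simp) ≫
          pullback.fst (Spec.map φ) g := (pullback.lift_fst _ _ _).symm
    refine this _ ?_ inferInstance ⟨_, rfl⟩
    rwa [heq, P.cancel_left_of_respectsIso]
  obtain ⟨Y, rfl⟩ := hY
  apply of_pullback_fst_Spec_of_codescendsAlong _ _ hQQ' H₂ _ h hf
  simp [HasAffineProperty.SpecMap_iff_of_affineAnd _ hQ]

theorem descendsAlong_isClosedImmersion_fpqc :
    MorphismProperty.DescendsAlong @IsClosedImmersion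
      (@Surjective ⊓ @Flat ⊓ @QuasiCompact : MorphismProperty Scheme.{u}) :=
  descendsAlong_of_affineAnd_fpqc @IsClosedImmersion
    (Q := fun f => Function.Surjective f) IsClosedImmersion.hasAffineProperty
    RingHom.surjective_respectsIso RingHom.FaithfullyFlat.codescendsAlong_surjective

theorem descendsAlong_isFinite_fpqc :
    MorphismProperty.DescendsAlong @IsFinite
      (@Surjective ⊓ @Flat ⊓ @QuasiCompact : MorphismProperty Scheme.{u}) :=
  descendsAlong_of_affineAnd_fpqc @IsFinite (Q := RingHom.Finite) inferInstance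
    RingHom.finite_respectsIso RingHom.Finite.codescendsAlong_faithfullyFlat

theorem descendsAlong_isIntegralHom_fpqc :
    MorphismProperty.DescendsAlong @IsIntegralHom
      (@Surjective ⊓ @Flat ⊓ @QuasiCompact : MorphismProperty Scheme.{u}) :=
  descendsAlong_of_affineAnd_fpqc @IsIntegralHom (Q := RingHom.IsIntegral)
    IsIntegralHom.hasAffineProperty
    RingHom.isIntegral_respectsIso isIntegral_codescendsAlong_faithfullyFlat

end Groth.Agent.Lib.Helper1
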