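import Groth.Agent.Lib.Helper49.FiniteTypeLocal
import Groth.Prelude.Def_CohB1
set_option autoImplicit false
universe u
open AlgebraicGeometry CategoryTheory Limits Opposite TopologicalSpace

namespace Groth.Agent.Lib.Helper1

variable {X : Scheme.{u}}

/-- a section of a module is zero if the stalks at all points of the open vanish -/
theorem section_eq_zero_of_subsingleton_stalk (M : X.Modules) (V : X.Opens)
    (h : ∀ x ∈ V, Subsingleton (M.presheaf.stalk x)) (t : Γ(M, V)) : t = 0 := by
  refine TopCat.Presheaf.section_ext ⟨M.presheaf, M.isSheaf⟩ V t 0 fun x hx => ?_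
  have := h x hx
  exact Subsingleton.elim _ _

/-- a module all of whose sections vanish is a zero object -/
theorem isZero_of_sections_eq_zero (M : X.Modules) (h : ∀ (V : X.Opens) (t : Γ(M, V)), t = 0) :
    IsZero M := by
  rw [IsZero.iff_id_eq_zero]
  apply Scheme.Modules.hom_ext
  intro V
  ext t
  exact (h V _).trans (h V _).symm

/-- The structure sheaf is quasi-coherent. -/
theorem isQuasicoherent_structureModule (X : Scheme.{u}) :
    SheafOfModules.IsQuasicoherent.{u, u, u} (Coh.structureModule X) := by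
  have e : SheafOfModules.free (R := X.ringCatSheaf) PUnit.{u+1} ≅
      SheafOfModules.unit X.ringCatSheaf :=
    Limits.coproductUniqueIso (fun _ : PUnit.{u+1} => SheafOfModules.unit X.ringCatSheaf)
  exact (SheafOfModules.isQuasicoherent X.ringCatSheaf).prop_of_iso e
    (inferInstanceAs (SheafOfModules.free (R := X.ringCatSheaf) PUnit.{u+1}).IsQuasicoherent)

theorem isQuasicoherent_of_isZero (M : X.Modules) (h : IsZero M) : M.IsQuasicoherent := by
  have h1 : (kernel (𝟙 (Coh.structureModule X))).IsQuasicoherent :=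
    Groth.Agent.Lib.Helper49.isQuasicoherent_kernel _ (isQuasicoherent_structureModule X)
      (isQuasicoherent_structureModule X)
  have h2 : IsZero (kernel (𝟙 (Coh.structureModule X))) := by
    rw [IsZero.iff_id_eq_zero, ← cancel_mono (kernel.ι (𝟙 (Coh.structureModule X)))]
    have := kernel.condition (𝟙 (Coh.structureModule X))
    rw [Category.comp_id] at this
    rw [this, zero_comp, comp_zero]
  exact Groth.Agent.Lib.Helper49.isQuasicoherent_of_iso (h2.iso h) h1

theorem isFiniteType_of_isZero (M : X.Modules) (h : IsZero M) :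
    SheafOfModules.IsFiniteType (R := X.ringCatSheaf) M := by
  let G : SheafOfModules.GeneratingSections (R := X.ringCatSheaf) M :=
    { I := PEmpty.{u+1}
      s := fun i => i.elim
      epi := h.epi (C := SheafOfModules X.ringCatSheaf) _ }
  have : G.IsFiniteType := ⟨inferInstanceAs (Finite PEmpty.{u+1})⟩
  exact Groth.Agent.Lib.Helper49.isFiniteType_of_generatingSections G

theorem isCoh_push_of_support (X : Scheme.{u}) (U : X.Opens) (T : Set X) (hT : IsClosed T)
    (hTU : T ⊆ (U : Set X)) (F : (↑U : Scheme.{u}).Modules) (hF : Coh.IsCoh F)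
    (hs : ∀ x : ↥U, x ∈ CohB1.support F → (x : X) ∈ T) :
    Coh.IsCoh ((Coh.push U.ι).obj F) := by
  set N : X.Modules := (Scheme.Modules.pushforward U.ι).obj F with hN
  let W : X.Opens := ⟨Tᶜ, hT.isOpen_compl⟩
  -- restriction to `U` is `F`
  have eU : N.restrict U.ι ≅ F := asIso ((Scheme.Modules.restrictAdjunction U.ι).counit.app F)
  -- restriction to `W` is zero
  have zW : IsZero (N.restrict W.ι) := by
    refine isZero_of_sections_eq_zero _ fun V t => ?_
    refine section_eq_zero_of_subsingleton_stalk F (U.ι ⁻¹ᵁ (W.ι ''ᵁ V)) (fun x hx => ?_) t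
    by_contra hcon
    have hxT : x.1 ∈ T := hs x hcon
    have hle : W.ι ''ᵁ V ≤ W := by
      refine (W.ι.image_le_opensRange V).trans ?_
      rw [Scheme.Opens.opensRange_ι]
    have hxW : x.1 ∈ W := hle hx
    exact hxW hxT
  let ι := {V : X.Opens // V = U ∨ V = W}
  have hcov : ∀ x : X, ∃ i : ι, x ∈ Set.range (i.1.ι) := by
    intro x
    by_cases hx : x ∈ T
    · exact ⟨⟨U, Or.inl rfl⟩, by rw [Scheme.Opens.range_ι]; exact hTU hx⟩
    · exact ⟨⟨W, Or.inr rfl⟩, by rw [Scheme.Opens.range_ι]; exact hx⟩
  refine ⟨?_, ?_⟩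
  · refine Groth.Agent.Lib.Helper49.isQuasicoherent_of_forall_restrict N (ι := ι)
      (fun i => (i.1 : Scheme.{u})) (fun i => i.1.ι) hcov ?_
    rintro ⟨V, rfl | rfl⟩
    · exact Groth.Agent.Lib.Helper49.isQuasicoherent_of_iso eU.symm hF.1
    · exact isQuasicoherent_of_isZero _ zW
  · refine Groth.Agent.Lib.Helper49.isFiniteType_of_forall_restrict N (ι := ι)
      (fun i => (i.1 : Scheme.{u})) (fun i => i.1.ι) hcov ?_
    rintro ⟨V, rfl | rfl⟩
    · exact Groth.Agent.Lib.Helper49.isFiniteType_of_iso eU.symm hF.2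
    · exact isFiniteType_of_isZero _ zW

end Groth.Agent.Lib.Helper1
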