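import Groth.Agent.S0462
import Groth.Agent.H46.ToSheafColim
import Groth.Prelude.Def_Coh
import Groth.Agent.Lib.Helper1.PushSupport
set_option autoImplicit false
universe u
open AlgebraicGeometry CategoryTheory Limits Opposite TopologicalSpace Abelian

namespace Groth.Agent.Lib.Helper1

variable {X : Scheme.{u}}

section General
universe v' u'
variable {C : Type u'} [Category.{v'} C] [Abelian C]

/-- `0 ⟶ ker f ⟶ A ⟶ im f ⟶ 0` -/
noncomputable def kerImComplex {A B : C} (f : A ⟶ B) : ShortComplex C :=
  ShortComplex.mk (kernel.ι f) (Abelian.factorThruImage f) (by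
    rw [← cancel_mono (Abelian.image.ι f), Category.assoc, Abelian.image.fac, kernel.condition,
      zero_comp])

theorem kerImComplex_shortExact {A B : C} (f : A ⟶ B) : (kerImComplex f).ShortExact := by
  have hex : (kerImComplex f).Exact := by
    apply ShortComplex.exact_of_f_is_kernel
    exact isKernelOfComp (Abelian.image.ι f) f (kernelIsKernel f) _ (Abelian.image.fac f)
  exact ShortComplex.ShortExact.mk' hex (inferInstanceAs (Mono (kernel.ι f)))
    (inferInstanceAs (Epi (Abelian.factorThruImage f)))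


end General

/-- underlying abelian sheaf, as a functor on `X.Modules` -/
noncomputable def toAbF (X : Scheme.{u}) :
    X.Modules ⥤ Sheaf (Opens.grothendieckTopology X) AddCommGrpCat.{u} :=
  SheafOfModules.toSheaf X.ringCatSheaf

instance : (toAbF X).Additive where
  map_add := by
    intros
    rfl

noncomputable instance : PreservesFiniteLimits (toAbF X) :=
  inferInstanceAs (PreservesFiniteLimits (SheafOfModules.toSheaf X.ringCatSheaf))

noncomputable instance : PreservesFiniteColimits (toAbF X) :=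
  Groth.Agent.H46.toSheaf_preservesFiniteColimits X.ringCatSheaf

theorem shortExact_map_toAbF {S : ShortComplex X.Modules} (hS : S.ShortExact) :
    (S.map (toAbF X)).ShortExact := hS.map_of_exact (toAbF X)

/-- If `H¹(X, S.X₁) = 0` for a short exact sequence `S` of modules, global sections of `S.X₃`
lift to `S.X₂`. -/
theorem exists_lift_sections_of_subsingleton_HH_one {S : ShortComplex X.Modules}
    (hS : S.ShortExact) (h1 : Subsingleton (Coh.HH X S.X₁ 1)) (t : Γ(S.X₃, ⊤)) :
    ∃ s : Γ(S.X₂, ⊤), S.g.app ⊤ s = t := by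
  have hS' := shortExact_map_toAbF hS
  have hk := Groth.Agent.S0462.bdry_ker (X := X.toTopCat) hS'
  let t' : (S.map (toAbF X)).X₃.obj.obj (op ⊤) := t
  have ht : t' ∈ (Groth.Agent.S0462.bdry (X := X.toTopCat) hS').ker :=
    AddMonoidHom.mem_ker.mpr (h1.elim _ _)
  rw [hk] at ht
  obtain ⟨s, hs⟩ := ht
  exact ⟨s, hs⟩

/-- middle exactness: `Hⁿ(S.X₁) = 0 = Hⁿ(S.X₃)` implies `Hⁿ(S.X₂) = 0` -/
theorem subsingleton_HH_of_shortExact {S : ShortComplex X.Modules} (hS : S.ShortExact) (n : ℕ)
    (h1 : Subsingleton (Coh.HH X S.X₁ n)) (h3 : Subsingleton (Coh.HH X S.X₃ n)) :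
    Subsingleton (Coh.HH X S.X₂ n) := by
  have hS' := shortExact_map_toAbF hS
  refine ⟨fun x y => ?_⟩
  suffices H : ∀ x : Coh.HH X S.X₂ n, x = 0 by rw [H x, H y]
  intro x
  let x' : Ext (Groth.Agent.S0459.cZ X.toTopCat) (S.map (toAbF X)).X₂ n := x
  obtain ⟨x₁, hx₁⟩ := Ext.covariant_sequence_exact₂ _ hS' x' (h3.elim _ _)
  have : x₁ = 0 := h1.elim _ _
  rw [this, Ext.zero_comp] at hx₁
  exact hx₁.symm

theorem subsingleton_HH_of_isZero {M : X.Modules} (hM : IsZero M) (n : ℕ) :
    Subsingleton (Coh.HH X M n) :=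
  Sheaf.subsingleton_H_of_isZero (F := (toAbF X).obj M) ((toAbF X).map_isZero hM) n

open ZeroObject in
/-- `O_X^n`, defined recursively with binary biproducts -/
noncomputable def Opow (X : Scheme.{u}) : ℕ → X.Modules
  | 0 => 0
  | n + 1 => Opow X n ⊞ Coh.structureModule X

theorem Opow_succ (X : Scheme.{u}) (n : ℕ) :
    Opow X (n + 1) = (Opow X n ⊞ Coh.structureModule X) := rfl

/-- inductive step for `subsingleton_HH_one_of_mono_Opow` -/
theorem subsingleton_HH_one_of_mono_biprod (A B : X.Modules)
    (hA : ∀ (M : X.Modules) (m : M ⟶ A), Mono m → M.IsQuasicoherent →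
      Subsingleton (Coh.HH X M 1))
    (hB : ∀ (M : X.Modules) (m : M ⟶ B), Mono m → M.IsQuasicoherent →
      Subsingleton (Coh.HH X M 1))
    (hBq : B.IsQuasicoherent)
    (M : X.Modules) (m : M ⟶ A ⊞ B) (hm : Mono m) (hM : M.IsQuasicoherent) :
    Subsingleton (Coh.HH X M 1) := by
  let g : M ⟶ B := m ≫ biprod.snd
  have hS := kerImComplex_shortExact g
  refine subsingleton_HH_of_shortExact hS 1 ?_ ?_
  · -- kernel embeds in `A`
    refine hA (kernel g) (kernel.ι g ≫ m ≫ biprod.fst) ?_ ?_
    · refine Preadditive.mono_of_cancel_zero _ fun {P} a ha => ?_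
      have h1 : (a ≫ kernel.ι g) ≫ m = 0 := by
        apply biprod.hom_ext
        · simpa using ha
        · have h0 : kernel.ι g ≫ m ≫ biprod.snd = 0 := kernel.condition g
          simp only [Category.assoc, zero_comp]
          rw [h0, comp_zero]
      have h2 : a ≫ kernel.ι g = 0 := by
        rw [← cancel_mono m, h1, zero_comp]
      rw [← cancel_mono (kernel.ι g), h2, zero_comp]
    · exact Groth.Agent.Lib.Helper49.isQuasicoherent_kernel g hM hBq
  · refine hB _ (Abelian.image.ι g) (inferInstanceAs (Mono (kernel.ι (cokernel.π g)))) ?_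
    exact Groth.Agent.Lib.Helper49.isQuasicoherent_kernel (cokernel.π g) hBq
      (Groth.Agent.Lib.Helper49.isQuasicoherent_cokernel g hM hBq)

/-- If `H¹` vanishes on quasi-coherent submodules of `O_X`, it vanishes on quasi-coherent
submodules of `O_X^n`. -/
theorem subsingleton_HH_one_of_mono_Opow
    (h : ∀ (I : X.Modules) (i : I ⟶ Coh.structureModule X), Mono i →
      Coh.IsQCoh I → Subsingleton (Coh.HH X I 1)) :
    ∀ (n : ℕ) (M : X.Modules) (m : M ⟶ Opow X n), Mono m → M.IsQuasicoherent →
      Subsingleton (Coh.HH X M 1) := by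
  intro n
  induction n with
  | zero =>
    intro M m hm _
    have : IsZero M := by
      rw [IsZero.iff_id_eq_zero, ← cancel_mono m]
      exact (isZero_zero X.Modules).eq_of_tgt _ _
    exact subsingleton_HH_of_isZero this 1
  | succ n ih =>
    intro M m hm hM
    exact subsingleton_HH_one_of_mono_biprod (Opow X n) (Coh.structureModule X) ih h
      (isQuasicoherent_structureModule X) M m hm hM


/-- the global section of `O_X` given by a global function -/
noncomputable def secOf (f : Γ(X, ⊤)) :
    SheafOfModules.sections (Coh.structureModule X) :=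
  PresheafOfModules.sectionsMk
    (fun V => (X.presheaf.map (homOfLE (le_top : V.unop ≤ ⊤)).op f : Γ(X, V.unop)))
    (by
      intro V W g
      change X.presheaf.map g (X.presheaf.map (homOfLE (le_top : V.unop ≤ ⊤)).op f) = _
      rw [← ConcreteCategory.comp_apply, ← Functor.map_comp]
      rfl)

/-- multiplication by a global function, as an endomorphism of `O_X` -/
noncomputable def mulHom (f : Γ(X, ⊤)) : Coh.structureModule X ⟶ Coh.structureModule X :=
  (SheafOfModules.unitHomEquiv (Coh.structureModule X)).symm (secOf f)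

theorem mulHom_app (f : Γ(X, ⊤)) (V : X.Opens) (a : Γ(X, V)) :
    (mulHom f).app V a = (a * X.presheaf.map (homOfLE (le_top : V ≤ ⊤)).op f : Γ(X, V)) := by
  rfl

theorem isUnit_res_of_le_basicOpen (f : Γ(X, ⊤)) {V : X.Opens} (hV : V ≤ X.basicOpen f) :
    IsUnit (X.presheaf.map (homOfLE (le_top : V ≤ ⊤)).op f) := by
  have h1 : IsUnit (X.presheaf.map (homOfLE (X.basicOpen_le f)).op f) :=
    RingedSpace.isUnit_res_basicOpen X.toRingedSpace f
  have h2 : IsUnit (X.presheaf.map (homOfLE hV).op
      (X.presheaf.map (homOfLE (X.basicOpen_le f)).op f)) :=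
    h1.map (X.presheaf.map (homOfLE hV).op).hom
  rw [← ConcreteCategory.comp_apply, ← Functor.map_comp] at h2
  exact h2

/-- a morphism out of `O_X` which vanishes after multiplication by `f` vanishes over `X_f` -/
theorem app_eq_zero_of_mulHom_comp_eq_zero {N : X.Modules} (ψ : Coh.structureModule X ⟶ N)
    (f : Γ(X, ⊤)) (h : mulHom f ≫ ψ = 0) {V : X.Opens} (hV : V ≤ X.basicOpen f) (a : Γ(X, V)) :
    ψ.app V a = 0 := by
  obtain ⟨u, hu⟩ := isUnit_res_of_le_basicOpen f hV
  have h1 : a = (mulHom f).app V (a * (↑u⁻¹ : Γ(X, V))) := by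
    rw [mulHom_app, ← hu, mul_assoc, Units.inv_mul, mul_one]
  have h2 : (mulHom f ≫ ψ).app V (a * (↑u⁻¹ : Γ(X, V))) = 0 := by rw [h]; rfl
  rw [h1]
  exact h2


/-- the map `O^n ⟶ O` given by a list of global functions -/
noncomputable def lin : (l : List Γ(X, ⊤)) → (Opow X l.length ⟶ Coh.structureModule X)
  | [] => 0
  | f :: l => biprod.desc (lin l) (mulHom f)

theorem mulHom_comp_eq_zero_of_lin {N : X.Modules} (ψ : Coh.structureModule X ⟶ N) :
    ∀ (l : List Γ(X, ⊤)), lin l ≫ ψ = 0 → ∀ f ∈ l, mulHom f ≫ ψ = 0 := by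
  intro l
  induction l with
  | nil => intro _ f hf; simp at hf
  | cons g l ih =>
    intro h f hf
    have h' : biprod.desc (lin l) (mulHom g) ≫ ψ = 0 := h
    have h1 : lin l ≫ ψ = 0 := by
      have := congrArg (fun t => biprod.inl ≫ t) h'
      simpa using this
    have h2 : mulHom g ≫ ψ = 0 := by
      have := congrArg (fun t => biprod.inr ≫ t) h'
      simpa using this
    rcases List.mem_cons.mp hf with rfl | hf
    · exact h2
    · exact ih h1 f hf

/-- sections of the module `O_X` are functions -/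
def secToFun {V : X.Opens} (a : Γ(Coh.structureModule X, V)) : Γ(X, V) := a

theorem lin_app_top_mem_span : ∀ (l : List Γ(X, ⊤)) (t : Γ(Opow X l.length, ⊤)),
    secToFun ((lin l).app ⊤ t) ∈ Ideal.span {f | f ∈ l} := by
  intro l
  induction l with
  | nil =>
    intro t
    have : (lin ([] : List Γ(X, ⊤))).app ⊤ t = 0 := rfl
    rw [this]
    exact Ideal.zero_mem _
  | cons g l ih =>
    intro t
    let t' : Γ(Opow X l.length ⊞ Coh.structureModule X, ⊤) := t
    have h1 : (lin (g :: l)).app ⊤ t =
        (lin l).app ⊤ ((biprod.fst : Opow X l.length ⊞ Coh.structureModule X ⟶ _).app ⊤ t') +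
        (mulHom g).app ⊤ ((biprod.snd : Opow X l.length ⊞ Coh.structureModule X ⟶ _).app ⊤ t') := by
      have h2 : biprod.desc (lin l) (mulHom g) =
          biprod.fst ≫ lin l + biprod.snd ≫ mulHom g := by
        apply biprod.hom_ext' <;> simp
      change (biprod.desc (lin l) (mulHom g)).app ⊤ t' = _
      rw [h2]
      rfl
    rw [h1]
    change secToFun ((lin l).app ⊤ _) + secToFun ((mulHom g).app ⊤ _) ∈ _
    refine Ideal.add_mem _ ?_ ?_
    · exact Ideal.span_mono (fun f hf => List.mem_cons_of_mem _ hf) (ih _)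
    · rw [mulHom_app]
      refine Ideal.mul_mem_left _ _ (Ideal.subset_span ?_)
      have : X.presheaf.map (homOfLE (le_top : (⊤ : X.Opens) ≤ ⊤)).op g = g := by
        change X.presheaf.map (𝟙 _) g = g
        rw [X.presheaf.map_id]; rfl
      rw [this]
      exact List.mem_cons_self

theorem hom_app_naturality {M N : X.Modules} (φ : M ⟶ N) {V W : X.Opens} (hWV : W ≤ V)
    (a : Γ(M, V)) :
    N.presheaf.map (homOfLE hWV).op (φ.app V a) = φ.app W (M.presheaf.map (homOfLE hWV).op a) :=
  (NatTrans.naturality_apply φ.mapPresheaf (homOfLE hWV).op a).symm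

theorem epi_lin (l : List Γ(X, ⊤)) (hcov : ∀ x : X, ∃ f ∈ l, x ∈ X.basicOpen f) :
    Epi (lin l) := by
  refine Preadditive.epi_of_cancel_zero _ fun {N} ψ hψ => ?_
  apply Scheme.Modules.hom_ext
  intro V
  ext a
  have hz := mulHom_comp_eq_zero_of_lin ψ l hψ
  refine TopCat.Sheaf.eq_of_locally_eq' ⟨N.presheaf, N.isSheaf⟩
    (fun (p : {f // f ∈ l}) => V ⊓ X.basicOpen p.1) V (fun p => homOfLE inf_le_left) ?_ _ _
    (fun p => ?_)
  · intro x hx
    obtain ⟨f, hf, hxf⟩ := hcov x
    exact Opens.mem_iSup.mpr ⟨⟨f, hf⟩, ⟨hx, hxf⟩⟩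
  · change N.presheaf.map (homOfLE inf_le_left).op (ψ.app V a) =
      N.presheaf.map (homOfLE inf_le_left).op 0
    rw [map_zero, hom_app_naturality]
    exact app_eq_zero_of_mulHom_comp_eq_zero ψ p.1 (hz p.1 p.2) inf_le_right _

theorem isQuasicoherent_biprod (A B : X.Modules) (hA : A.IsQuasicoherent)
    (hB : B.IsQuasicoherent) : (A ⊞ B).IsQuasicoherent := by
  have h1 := Groth.Agent.Lib.Helper49.isQuasicoherent_finite_limit (pair A B)
    (fun j => by rcases j with ⟨_ | _⟩ <;> assumption)
  exact Groth.Agent.Lib.Helper49.isQuasicoherent_of_iso (biprod.isoProd A B).symm h1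

theorem isQuasicoherent_Opow (X : Scheme.{u}) : ∀ n, (Opow X n).IsQuasicoherent := by
  intro n
  induction n with
  | zero => exact isQuasicoherent_of_isZero _ (isZero_zero X.Modules)
  | succ n ih => exact isQuasicoherent_biprod _ _ ih (isQuasicoherent_structureModule X)

/-- Under the hypothesis of Serre's criterion, global functions whose non-vanishing loci cover `X`
generate the unit ideal. -/
theorem one_mem_span_of_cover
    (h : ∀ (I : X.Modules) (i : I ⟶ Coh.structureModule X), Mono i →
      Coh.IsQCoh I → Subsingleton (Coh.HH X I 1))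
    (l : List Γ(X, ⊤)) (hcov : ∀ x : X, ∃ f ∈ l, x ∈ X.basicOpen f) :
    (1 : Γ(X, ⊤)) ∈ Ideal.span {f | f ∈ l} := by
  have hepi := epi_lin l hcov
  let S : ShortComplex X.Modules := ShortComplex.mk (kernel.ι (lin l)) (lin l)
    (kernel.condition _)
  have hS : S.ShortExact := ShortComplex.ShortExact.mk' (ShortComplex.exact_kernel (lin l))
    (inferInstanceAs (Mono (kernel.ι (lin l)))) hepi
  have h1 : Subsingleton (Coh.HH X S.X₁ 1) :=
    subsingleton_HH_one_of_mono_Opow h _ (kernel (lin l)) (kernel.ι _) inferInstance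
      (Groth.Agent.Lib.Helper49.isQuasicoherent_kernel _ (isQuasicoherent_Opow X _)
        (isQuasicoherent_structureModule X))
  obtain ⟨s, hs⟩ := exists_lift_sections_of_subsingleton_HH_one hS h1
    (1 : Γ(X, ⊤))
  have := lin_app_top_mem_span l s
  change secToFun (S.g.app ⊤ s) ∈ _ at this
  rw [hs] at this
  exact this

end Groth.Agent.Lib.Helper1
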