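import Groth.Agent.S0463

/-!
# `H^n(⊤, F) ≃ H^n(X, F)` for abelian sheaves on a topological space

`Sheaf.H' F n ⊤` (Ext out of the free abelian sheaf on the open `⊤`) versus `Sheaf.H F n` (Ext out
of the constant sheaf `ℤ`): both sheaves corepresent global sections, hence are isomorphic.
(Uses the corepresentability helper of `Groth.Agent.S0463`.)
-/

set_option autoImplicit false
universe u
open CategoryTheory Opposite CategoryTheory.Limits TopologicalSpace Abelian

namespace Groth.Agent.Lib.Helper1

variable {X : TopCat.{u}}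

/-- The constant sheaf `ℤ` on `X`. -/
noncomputable abbrev constZ (X : TopCat.{u}) : CohTop.Ab X :=
  (constantSheaf (Opens.grothendieckTopology X) AddCommGrpCat.{u}).obj
    (AddCommGrpCat.of (ULift ℤ))

/-- Morphisms out of the constant sheaf `ℤ` are global sections. -/
noncomputable def γ (F : CohTop.Ab X) : (constZ X ⟶ F) ≃ F.obj.obj (op ⊤) :=
  ((constantSheafAdj (Opens.grothendieckTopology X) AddCommGrpCat.{u}
      (isTerminalTop (α := Opens X))).homEquiv (AddCommGrpCat.of (ULift ℤ)) F).trans
    (AddCommGrpCat.uliftZMultiplesAddEquiv _).toEquiv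

theorem γ_naturality {F G : CohTop.Ab X} (f : F ⟶ G) (g : constZ X ⟶ F) :
    γ G (g ≫ f) = f.hom.app (op ⊤) (γ F g) := by
  dsimp only [γ, Equiv.trans_apply]
  rw [Adjunction.homEquiv_naturality_right]
  rfl

/-- The constant sheaf `ℤ` is the free abelian sheaf on the open `⊤`. -/
noncomputable def constZIsoFree (X : TopCat.{u}) :
    constZ X ≅ Groth.Agent.S0463.freeSheaf (⊤ : Opens X) :=
  Groth.Agent.S0463.isoOfCorepresent (T := fun F : CohTop.Ab X => F.obj.obj (op ⊤))
    (fun f x => f.hom.app _ x) γ (Groth.Agent.S0463.β _) γ_naturality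
    (Groth.Agent.S0463.β_naturality _)

/-- **U7**: `H^n(⊤, F) ≃+ H^n(X, F)`. -/
noncomputable def HUTopEquivH (F : CohTop.Ab X) (n : ℕ) : CohTop.HU F n ⊤ ≃+ CohTop.H F n :=
  (Groth.Agent.S0463.extIsoLeft (constZIsoFree X) F n).symm

end Groth.Agent.Lib.Helper1
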