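import Groth.Agent.S0007
import Groth.Agent.S0463

/-!
# Vanishing of higher cohomology of quasi-coherent modules over affine opens

For a quasi-coherent module `M` on a scheme `X` and an affine open `V`, `H^{q+1}(V, M) = 0`
(in the form `CohTop.HU`, i.e. Mathlib's `Sheaf.H'`).  From `S0007` (affine vanishing) and `S0463`
(`H^n(V, F) = H^n` of the restriction to `V`).
-/

set_option autoImplicit false
universe u
open CategoryTheory Limits Opposite TopologicalSpace AlgebraicGeometry

namespace Groth.Agent.Lib.Helper1

theorem subsingleton_HU_of_isAffineOpen {X : Scheme.{u}} (M : X.Modules) [M.IsQuasicoherent]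
    (V : X.Opens) (hV : IsAffineOpen V) (q : ℕ) :
    Subsingleton (CohTop.HU (X := X.toTopCat) (Coh.toAb M) (q + 1) V) := by
  obtain ⟨e⟩ := Groth.Agent.S0463.result (X := X.toTopCat) (Coh.toAb M) V (q + 1)
  haveI : IsAffine V.toScheme := hV
  have h : Subsingleton (Coh.HH V.toScheme (M.restrict V.ι) (q + 1)) :=
    Groth.Agent.S0007.result _ _ _ (Nat.succ_pos q)
  exact @Equiv.subsingleton _ _ e.toEquiv h

end Groth.Agent.Lib.Helper1
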