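import Mathlib.Topology.Sheaves.SheafCondition.UniqueGluing
import Mathlib.Topology.Sheaves.Abelian
import Mathlib.CategoryTheory.Sites.Abelian
import Mathlib.Algebra.Category.Grp.Abelian
import Mathlib.Algebra.Category.Grp.Limits
import Mathlib.Algebra.Category.Grp.FilteredColimits
import Mathlib.Topology.Sheaves.Sheafify
import Mathlib.Topology.Sheaves.Stalks

/-!
# Sheafification of a presheaf that vanishes on a basis is zero
-/

set_option autoImplicit false
universe u
open CategoryTheory Limits Opposite TopologicalSpace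

namespace Groth.Agent.Lib.Helper1

variable {Y : TopCat.{u}}

/-- A morphism from a presheaf `P` to a sheaf `G` is zero as soon as `P` vanishes on a basis. -/
theorem presheaf_hom_eq_zero_of_basis (P : (Opens Y)ᵒᵖ ⥤ AddCommGrpCat.{u})
    (G : Sheaf (Opens.grothendieckTopology Y) AddCommGrpCat.{u})
    (B : Set (Opens Y)) (hB : Opens.IsBasis B)
    (hP : ∀ V ∈ B, Subsingleton (P.obj (op V))) (φ : P ⟶ G.obj) : φ = 0 := by
  ext W s
  induction W using Opposite.rec with | _ W => ?_
  -- cover `W` by members of the basis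
  have hpt : ∀ y : W, ∃ V ∈ B, (y : Y) ∈ V ∧ V ≤ W := by
    intro y
    obtain ⟨_, ⟨V, hV, rfl⟩, hyV, hVW⟩ := hB.exists_subset_of_mem_open y.2 W.isOpen
    exact ⟨V, hV, hyV, hVW⟩
  choose V hVB hyV hVW using hpt
  refine TopCat.Sheaf.eq_of_locally_eq' (F := G) V W (fun y => homOfLE (hVW y))
    (fun y hy => Opens.mem_iSup.mpr ⟨⟨y, hy⟩, hyV ⟨y, hy⟩⟩) _ _ (fun y => ?_)
  have hnat := ConcreteCategory.congr_hom (φ.naturality (homOfLE (hVW y)).op) s
  simp only [ConcreteCategory.comp_apply] at hnat
  have h0 : P.map (homOfLE (hVW y)).op s = 0 := @Subsingleton.elim _ (hP _ (hVB y)) _ _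
  rw [h0, map_zero] at hnat
  rw [← hnat]
  simp

/-- The sheafification of a presheaf of abelian groups that vanishes on a basis is zero. -/
theorem isZero_presheafToSheaf_of_basis (P : (Opens Y)ᵒᵖ ⥤ AddCommGrpCat.{u})
    (B : Set (Opens Y)) (hB : Opens.IsBasis B)
    (hP : ∀ V ∈ B, Subsingleton (P.obj (op V))) :
    IsZero ((presheafToSheaf (Opens.grothendieckTopology Y) AddCommGrpCat.{u}).obj P) := by
  rw [IsZero.iff_id_eq_zero]
  apply ((sheafificationAdjunction (Opens.grothendieckTopology Y)
    AddCommGrpCat.{u}).homEquiv P _).injective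
  exact (presheaf_hom_eq_zero_of_basis P _ B hB hP _).trans
    (presheaf_hom_eq_zero_of_basis P _ B hB hP _).symm

end Groth.Agent.Lib.Helper1
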