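import Groth.Agent.Lib.Helper49.FiniteTypeLocal
import Groth.Prelude.Def_CohB1
set_option autoImplicit false
universe u
open AlgebraicGeometry CategoryTheory Limits Opposite TopologicalSpace

namespace Groth.Agent.Lib.Helper1

variable {Y : Scheme.{u}}

/-- If generating sections of `N` all vanish on `V`, the unit `N ⟶ j_* j^* N` for `j : V ⟶ Y`
is zero. -/
theorem unit_eq_zero_of_generatingSections_vanish (N : Y.Modules) (G : N.GeneratingSections)
    (V : Y.Opens) (hV : ∀ j, (G.s j).val (op V) = 0) :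
    (Scheme.Modules.restrictAdjunction V.ι).unit.app N = 0 := by
  set η := (Scheme.Modules.restrictAdjunction V.ι).unit.app N with hη
  have hepi : Epi (C := SheafOfModules Y.ringCatSheaf) G.π := G.epi
  have h1 : ∀ j, SheafOfModules.sectionsMap (R := Y.ringCatSheaf) η (G.s j) =
      SheafOfModules.sectionsMap (R := Y.ringCatSheaf) 0 (G.s j) := by
    intro j
    apply PresheafOfModules.sections_ext
    intro W
    have hle : V.ι ''ᵁ V.ι ⁻¹ᵁ W.unop ≤ V := by
      rw [Scheme.Hom.image_preimage_eq_opensRange_inf, Scheme.Opens.opensRange_ι]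
      exact inf_le_left
    have e1 : (G.s j).val (op (V.ι ''ᵁ V.ι ⁻¹ᵁ W.unop)) = 0 := by
      rw [← PresheafOfModules.sections_property (G.s j) (homOfLE hle).op, hV j]
      exact map_zero _
    have e2 := PresheafOfModules.sections_property (G.s j)
      (homOfLE (V.ι.image_preimage_le W.unop)).op
    change N.presheaf.map (homOfLE (V.ι.image_preimage_le W.unop)).op ((G.s j).val W) = 0
    exact e2.trans e1
  have h2 : G.π ≫ η = G.π ≫ 0 := by
    rw [SheafOfModules.freeHomEquiv_symm_comp, SheafOfModules.freeHomEquiv_symm_comp]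
    congr 1
    funext j
    exact h1 j
  exact (cancel_epi (C := SheafOfModules Y.ringCatSheaf) G.π).mp h2

theorem eq_zero_of_generatingSections_vanish (N : Y.Modules) (G : N.GeneratingSections)
    (V : Y.Opens) (hV : ∀ j, (G.s j).val (op V) = 0) {W : Y.Opens} (hW : W ≤ V)
    (t : Γ(N, W)) : t = 0 := by
  have h0 := unit_eq_zero_of_generatingSections_vanish N G V hV
  have h1 : ((Scheme.Modules.restrictAdjunction V.ι).unit.app N).app W t = 0 := by
    rw [h0]; rfl
  replace h1 : N.presheaf.map (homOfLE (V.ι.image_preimage_le W)).op t = 0 := h1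
  have heq : V.ι ''ᵁ V.ι ⁻¹ᵁ W = W := by
    rw [Scheme.Hom.image_preimage_eq_opensRange_inf, Scheme.Opens.opensRange_ι]
    exact inf_eq_right.mpr hW
  have h2 : N.presheaf.map (homOfLE (le_of_eq heq.symm)).op
      (N.presheaf.map (homOfLE (V.ι.image_preimage_le W)).op t) = 0 := by
    rw [h1]; exact map_zero _
  rw [← ConcreteCategory.comp_apply, ← Functor.map_comp] at h2
  have h3 : (homOfLE (V.ι.image_preimage_le W)).op ≫ (homOfLE (le_of_eq heq.symm)).op = 𝟙 _ :=
    Subsingleton.elim _ _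
  rw [h3, N.presheaf.map_id] at h2
  exact h2

/-- vanishing of a section near a point from vanishing of the stalk -/
theorem exists_restrict_eq_zero_of_subsingleton_stalk {X : Scheme.{u}} (M : X.Modules) (x : X)
    (hx : Subsingleton (M.presheaf.stalk x)) {U : X.Opens} (hxU : x ∈ U) (a : Γ(M, U)) :
    ∃ (W : X.Opens) (_ : x ∈ W) (hW : W ≤ U), M.presheaf.map (homOfLE hW).op a = 0 := by
  have h := TopCat.Presheaf.germ_eq M.presheaf x hxU hxU a 0 (Subsingleton.elim _ _)
  obtain ⟨W, hxW, iU, iV, e⟩ := h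
  refine ⟨W, hxW, iU.le, ?_⟩
  rw [map_zero] at e
  exact e

/-- Local statement: generating sections on an open `U` and a point `x ∈ U` with zero stalk;
then the stalks vanish on a neighbourhood. -/
theorem exists_nhd_subsingleton_stalk {X : Scheme.{u}} (M : X.Modules) (U : X.Opens)
    (G : (M.restrict U.ι).GeneratingSections) [G.IsFiniteType] (x : X) (hxU : x ∈ U)
    (hx : Subsingleton (M.presheaf.stalk x)) :
    ∃ V' : X.Opens, x ∈ V' ∧ ∀ z ∈ V', Subsingleton (M.presheaf.stalk z) := by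
  have hU : U.ι ''ᵁ ⊤ = U := by
    rw [Scheme.Hom.image_top_eq_opensRange, Scheme.Opens.opensRange_ι]
  have key : ∀ j : G.I, ∃ W : X.Opens, x ∈ W ∧ (G.s j).val (op (U.ι ⁻¹ᵁ W)) = 0 := by
    intro j
    have hx1 : x ∈ U.ι ''ᵁ ⊤ := by rw [hU]; exact hxU
    obtain ⟨W, hxW, hW, e⟩ := exists_restrict_eq_zero_of_subsingleton_stalk M x hx hx1
      ((G.s j).val (op ⊤))
    refine ⟨W, hxW, ?_⟩
    rw [← PresheafOfModules.sections_property (G.s j) (homOfLE le_top).op]
    have hle : U.ι ''ᵁ U.ι ⁻¹ᵁ W ≤ W := U.ι.image_preimage_le W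
    change M.presheaf.map (homOfLE (U.ι.image_mono le_top)).op ((G.s j).val (op ⊤)) = 0
    have : (homOfLE (U.ι.image_mono (le_top : U.ι ⁻¹ᵁ W ≤ ⊤))).op =
        (homOfLE hW).op ≫ (homOfLE hle).op := Subsingleton.elim _ _
    rw [this, Functor.map_comp, ConcreteCategory.comp_apply, e, map_zero]
  choose W hxW hW using key
  let V' : X.Opens := ⟨⋂ j, (W j : Set X), isOpen_iInter_of_finite fun j => (W j).2⟩ ⊓ U
  have hV'W : ∀ j, V' ≤ W j := fun j => inf_le_left.trans (fun z hz => Set.mem_iInter.mp hz j)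
  refine ⟨V', ⟨Set.mem_iInter.mpr hxW, hxU⟩, fun z hz => ?_⟩
  have hV : ∀ j, (G.s j).val (op (U.ι ⁻¹ᵁ V')) = 0 := by
    intro j
    have hle : U.ι ⁻¹ᵁ V' ≤ U.ι ⁻¹ᵁ W j := fun y hy => hV'W j hy
    rw [← PresheafOfModules.sections_property (G.s j) (homOfLE hle).op, hW j]
    exact map_zero _
  refine ⟨fun g g' => ?_⟩
  suffices H : ∀ g : M.presheaf.stalk z, g = 0 by rw [H g, H g']
  intro g
  obtain ⟨W0, hzW0, t, rfl⟩ := TopCat.Presheaf.exists_germ_eq M.presheaf g
  let W1 : (U : Scheme.{u}).Opens := U.ι ⁻¹ᵁ (W0 ⊓ V')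
  have hW1 : U.ι ''ᵁ W1 = W0 ⊓ V' := by
    rw [Scheme.Hom.image_preimage_eq_opensRange_inf, Scheme.Opens.opensRange_ι]
    exact inf_eq_right.mpr (inf_le_right.trans inf_le_right)
  have hle0 : U.ι ''ᵁ W1 ≤ W0 := by rw [hW1]; exact inf_le_left
  have hz1 : z ∈ U.ι ''ᵁ W1 := by rw [hW1]; exact ⟨hzW0, hz⟩
  have hW1V : W1 ≤ U.ι ⁻¹ᵁ V' := fun y hy => hy.2
  have ht : M.presheaf.map (homOfLE hle0).op t = 0 :=
    eq_zero_of_generatingSections_vanish (M.restrict U.ι) G (U.ι ⁻¹ᵁ V') hV hW1V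
      (M.presheaf.map (homOfLE hle0).op t)
  rw [← TopCat.Presheaf.germ_res_apply M.presheaf (homOfLE hle0) z hz1 t, ht, map_zero]

/-- The support of a finite type module is closed. -/
theorem isClosed_support_of_isFiniteType {X : Scheme.{u}} (M : X.Modules)
    (hM : SheafOfModules.IsFiniteType (R := X.ringCatSheaf) M) :
    IsClosed (CohB1.support M) := by
  rw [← isOpen_compl_iff, isOpen_iff_forall_mem_open]
  intro x hx
  have hx' : Subsingleton (M.presheaf.stalk x) := by
    by_contra h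
    exact hx h
  obtain ⟨ι, U, hU, hG⟩ := Groth.Agent.Lib.Helper49.exists_cover_of_isFiniteType M hM
  obtain ⟨i, hi⟩ : ∃ i, x ∈ U i := by
    have : x ∈ (⨆ i, U i : X.Opens) := by
      rw [show (⨆ i, U i : X.Opens) = ⊤ from hU]; trivial
    exact Opens.mem_iSup.mp this
  obtain ⟨G, hGf⟩ := hG i
  obtain ⟨V', hxV', hV'⟩ := exists_nhd_subsingleton_stalk M (U i) G x hi hx'
  refine ⟨V', fun z hz hzs => hzs (hV' z hz), V'.2, hxV'⟩

end Groth.Agent.Lib.Helper1
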