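import Groth.Agent.Lib.Helper1.IdealMod
set_option autoImplicit false
universe u
open AlgebraicGeometry CategoryTheory Limits Opposite TopologicalSpace

namespace Groth.Agent.Lib.Helper1

/-- Serre's criterion for affineness. -/
theorem isAffine_of_forall_subsingleton_HH_one (X : Scheme.{u}) [CompactSpace X]
    (h : ∀ (I : X.Modules) (i : I ⟶ Coh.structureModule X), Mono i →
      Coh.IsQCoh I → Subsingleton (Coh.HH X I 1)) : IsAffine X := by
  let s : Set Γ(X, ⊤) := {f | IsAffineOpen (X.basicOpen f)}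
  have hcov : ∀ x : X, ∃ f ∈ s, x ∈ X.basicOpen f := by
    by_contra hcon
    let Wo : X.Opens := ⨆ f : s, X.basicOpen f.1
    have hne : ((Wo : Set X)ᶜ).Nonempty := by
      by_contra hemp
      rw [Set.not_nonempty_iff_eq_empty, Set.compl_empty_iff] at hemp
      apply hcon
      intro x
      have hx : x ∈ Wo := by
        change x ∈ (Wo : Set X)
        rw [hemp]; trivial
      obtain ⟨f, hf⟩ := Opens.mem_iSup.mp hx
      exact ⟨f.1, f.2, hf⟩
    obtain ⟨x, hxC, hxcl⟩ := IsClosed.exists_closed_singleton Wo.2.isClosed_compl hne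
    obtain ⟨_, ⟨U, hU, rfl⟩, hxU, -⟩ :=
      X.isBasis_affineOpens.exists_subset_of_mem_open (Set.mem_univ x) isOpen_univ
    obtain ⟨f, hxf, hfU⟩ := exists_basicOpen_of_closed_point X h x hxcl U hxU
    have haff : IsAffineOpen (X.basicOpen f) := by
      have := IsAffineOpen.basicOpen hU (X.presheaf.map (homOfLE (le_top : U ≤ ⊤)).op f)
      rwa [Scheme.basicOpen_res, inf_eq_right.mpr hfU] at this
    exact hxC (Opens.mem_iSup.mpr ⟨⟨f, haff⟩, hxf⟩)
  obtain ⟨t, ht⟩ := isCompact_univ.elim_finite_subcover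
    (fun f : s => (X.basicOpen f.1 : Set X)) (fun f => (X.basicOpen f.1).2) (by
      intro x _
      obtain ⟨f, hf, hxf⟩ := hcov x
      exact Set.mem_iUnion.mpr ⟨⟨f, hf⟩, hxf⟩)
  let l : List Γ(X, ⊤) := t.toList.map Subtype.val
  have hl : ∀ x : X, ∃ f ∈ l, x ∈ X.basicOpen f := by
    intro x
    have := ht (Set.mem_univ x)
    simp only [Set.mem_iUnion] at this
    obtain ⟨f, hft, hxf⟩ := this
    exact ⟨f.1, List.mem_map.mpr ⟨f, Finset.mem_toList.mpr hft, rfl⟩, hxf⟩
  have h1 := one_mem_span_of_cover h l hl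
  have hsub : {f | f ∈ l} ⊆ s := by
    intro f hf
    obtain ⟨g, -, rfl⟩ := List.mem_map.mp hf
    exact g.2
  have hs : Ideal.span s = ⊤ := (Ideal.eq_top_iff_one _).mpr (Ideal.span_mono hsub h1)
  exact isAffine_of_isAffineOpen_basicOpen s hs (fun f hf => hf)

end Groth.Agent.Lib.Helper1
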