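import Mathlib.AlgebraicGeometry.Morphisms.FlatDescent
import Mathlib.AlgebraicGeometry.Morphisms.Finite
import Mathlib.AlgebraicGeometry.Morphisms.Proper
import Mathlib.AlgebraicGeometry.Morphisms.ClosedImmersion
import Mathlib.AlgebraicGeometry.Morphisms.Separated
import Mathlib.AlgebraicGeometry.Morphisms.Integral
import Mathlib.AlgebraicGeometry.Morphisms.QuasiFinite
import Mathlib.AlgebraicGeometry.Morphisms.Immersion
import Groth.Agent.S0079
import Groth.Agent.S0080

set_option autoImplicit false
open CategoryTheory CategoryTheory.Limits AlgebraicGeometry Opposite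
universe u

namespace Groth.Agent.Lib.Helper1

theorem isAffine_of_fpqc_pullback {R S : CommRingCat.{u}} {Y : Scheme.{u}} (φ : R ⟶ S)
    (g : Y ⟶ Spec R) (h : (@Surjective ⊓ @Flat : MorphismProperty Scheme.{u}) (Spec.map φ))
    (hfst : IsAffineHom (pullback.fst (Spec.map φ) g)) : IsAffine Y := by
  have hsurj : Surjective (Spec.map φ) := h.1
  have hflat : Flat (Spec.map φ) := h.2
  have hqc : QuasiCompact (Spec.map φ) := inferInstance
  have hQ : (@Surjective ⊓ @Flat ⊓ @QuasiCompact : MorphismProperty Scheme.{u}) (Spec.map φ) :=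
    ⟨h, hqc⟩
  have := Groth.Agent.S0079.result.{u}
  have := Groth.Agent.S0080.result.{u}
  have hgqc : QuasiCompact g :=
    MorphismProperty.of_pullback_fst_of_descendsAlong (P := @QuasiCompact)
      (Q := @Surjective ⊓ @Flat ⊓ @QuasiCompact) (f := Spec.map φ) hQ inferInstance
  have hgqs : QuasiSeparated g :=
    MorphismProperty.of_pullback_fst_of_descendsAlong (P := @QuasiSeparated)
      (Q := @Surjective ⊓ @Flat ⊓ @QuasiCompact) (f := Spec.map φ) hQ inferInstance
  have hYc : CompactSpace Y := QuasiCompact.compactSpace_of_compactSpace g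
  have hYqs : QuasiSeparatedSpace Y := quasiSeparatedSpace_of_quasiSeparated g
  have hY'aff : IsAffine (pullback (Spec.map φ) g) := isAffine_of_isAffineHom (pullback.fst (Spec.map φ) g)
  have H : IsPullback (pullback.snd (Spec.map φ) g) (pullback.fst (Spec.map φ) g) g (Spec.map φ) :=
    (IsPullback.of_hasPullback (Spec.map φ) g).flip
  have hiso := isIso_pushoutSection_of_isQuasiSeparated_of_flat_right H (US := ⊤) (UT := ⊤) (UX := ⊤)
    (UY := ⊤) (Scheme.Hom.preimage_top _).ge (Scheme.Hom.preimage_top _).ge (by simp) (isAffineOpen_top _) (isAffineOpen_top _)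
    (by simpa using isCompact_univ) (by simpa using isQuasiSeparated_univ)
  have hpo := (isIso_pushoutSection_iff ..).mp hiso
  have hpb := hpo.op.map Scheme.Spec
  have key : ∀ {A B : Scheme.{u}} (f : A ⟶ B) (e : (⊤ : A.Opens) ≤ f ⁻¹ᵁ ⊤), f.appLE ⊤ ⊤ e = f.appTop := by
    intro A B f e
    simp only [Scheme.Hom.appLE, Scheme.Hom.appTop]
    exact (congrArg (fun t => Scheme.Hom.app f ⊤ ≫ t) (A.presheaf.map_id _)).trans (Category.comp_id _)
  simp only [key] at hpb
  change IsPullback (Spec.map (pullback.fst (Spec.map φ) g).appTop)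
    (Spec.map (pullback.snd (Spec.map φ) g).appTop) (Spec.map (Spec.map φ).appTop)
    (Spec.map g.appTop) at hpb
  -- outer square
  have hout : IsPullback ((pullback (Spec.map φ) g).toSpecΓ ≫ Spec.map (pullback.fst (Spec.map φ) g).appTop)
      (pullback.snd (Spec.map φ) g) (Spec.map (Spec.map φ).appTop) (Y.toSpecΓ ≫ Spec.map g.appTop) := by
    refine H.flip.of_iso (Iso.refl _) (asIso (Spec S).toSpecΓ) (Iso.refl _) (asIso (Spec R).toSpecΓ)
      ?_ ?_ ?_ ?_
    · simp [Scheme.toSpecΓ_naturality]
    · simp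
    · simp [Scheme.toSpecΓ_naturality]
    · simp [Scheme.toSpecΓ_naturality]
  have hleft : IsPullback (pullback (Spec.map φ) g).toSpecΓ (pullback.snd (Spec.map φ) g)
      (Spec.map (pullback.snd (Spec.map φ) g).appTop) Y.toSpecΓ :=
    IsPullback.of_right hout (Scheme.toSpecΓ_naturality _).symm hpb
  -- the bottom map is fpqc
  have hQ' : (@Surjective ⊓ @Flat ⊓ @QuasiCompact : MorphismProperty Scheme.{u})
      (Spec.map (Spec.map φ).appTop) := by
    have e : Spec.map φ ≫ (Spec R).toSpecΓ = (Spec S).toSpecΓ ≫ Spec.map (Spec.map φ).appTop :=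
      Scheme.toSpecΓ_naturality _
    rw [← MorphismProperty.cancel_left_of_respectsIso
      (@Surjective ⊓ @Flat ⊓ @QuasiCompact : MorphismProperty Scheme.{u}) (Spec S).toSpecΓ, ← e,
      MorphismProperty.cancel_right_of_respectsIso
      (@Surjective ⊓ @Flat ⊓ @QuasiCompact : MorphismProperty Scheme.{u})]
    exact hQ
  have hQ'' : (@Surjective ⊓ @Flat ⊓ @QuasiCompact : MorphismProperty Scheme.{u})
      (Spec.map (pullback.snd (Spec.map φ) g).appTop) :=
    MorphismProperty.of_isPullback hpb hQ'
  have hisoY : IsIso Y.toSpecΓ :=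
    MorphismProperty.of_isPullback_of_descendsAlong (P := MorphismProperty.isomorphisms Scheme.{u})
      (Q := @Surjective ⊓ @Flat ⊓ @QuasiCompact) hleft hQ''
      (inferInstanceAs (IsIso (pullback (Spec.map φ) g).toSpecΓ))
  exact ⟨hisoY⟩

end Groth.Agent.Lib.Helper1
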