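import Mathlib

/-!
# Split filtrations are determined by the filtration induced on a tensor power

Used for S19157. The argument works near each prime `m` of the base ring with `R`-valued linear
forms and the functionals `∏ νᵢ` on the tensor power; no localization of modules is used.
-/

set_option autoImplicit false
set_option linter.style.haveILetI false
set_option linter.unusedSectionVars false
open scoped TensorProduct

namespace Groth.Agent.Lib.Helper1.FiltTensor

universe u v w


section Graded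
variable {Γ : Type w} [DecidableEq Γ]
  {R : Type u} [CommRing R] {M : Type v} [AddCommGroup M] [Module R M]
  (G : Γ → Submodule R M) (hG : DirectSum.IsInternal G)

/-- the projection onto a graded piece -/
noncomputable def proj (η : Γ) : M →ₗ[R] M :=
  letI := hG.chooseDecomposition
  (G η).subtype ∘ₗ DirectSum.component R Γ (fun i => G i) η ∘ₗ
    (DirectSum.decomposeLinearEquiv G).toLinearMap

theorem proj_apply (η : Γ) (x : M) :
    letI := hG.chooseDecomposition
    proj G hG η x = (DirectSum.decompose G x η : M) := rfl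

theorem proj_mem (η : Γ) (x : M) : proj G hG η x ∈ G η := by
  letI := hG.chooseDecomposition
  rw [proj_apply]
  exact (DirectSum.decompose G x η).2

theorem proj_of_mem {η : Γ} {x : M} (hx : x ∈ G η) : proj G hG η x = x := by
  letI := hG.chooseDecomposition
  rw [proj_apply]
  exact DirectSum.decompose_of_mem_same G hx

theorem proj_of_mem_ne {η η' : Γ} {x : M} (hx : x ∈ G η') (hne : η' ≠ η) :
    proj G hG η x = 0 := by
  letI := hG.chooseDecomposition
  rw [proj_apply]
  exact DirectSum.decompose_of_mem_ne G hx hne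

theorem mem_of_proj_eq_zero (P : Submodule R M) (S : Set Γ) (hP : ∀ η ∈ S, G η ≤ P) (x : M)
    (hx : ∀ η, η ∉ S → proj G hG η x = 0) : x ∈ P := by
  classical
  letI := hG.chooseDecomposition
  rw [← DirectSum.sum_support_decompose G x]
  refine Submodule.sum_mem _ (fun η _ => ?_)
  by_cases hη : η ∈ S
  · exact hP η hη (DirectSum.decompose G x η).2
  · have := hx η hη
    rw [proj_apply] at this
    rw [this]
    exact P.zero_mem

include hG in
theorem finite_support [Module.Finite R M] : {η | G η ≠ ⊥}.Finite := by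
  classical
  have htop : (⊤ : Submodule R M) ≤ ⨆ η, G η := by
    rw [hG.submodule_iSup_eq_top]
  have hc : IsCompactElement (⊤ : Submodule R M) :=
    (Submodule.fg_iff_compact _).mp Module.Finite.fg_top
  obtain ⟨s, hs⟩ := CompleteLattice.IsCompactElement.exists_finset_of_le_iSup _ hc G htop
  refine s.finite_toSet.subset (fun η hη => ?_)
  by_contra hns
  apply hη
  have hind := hG.submodule_iSupIndep
  have h1 : Disjoint (G η) (⨆ j ∈ s, G j) := by
    refine (hind η).mono_right ?_
    refine iSup₂_le (fun j hj => ?_)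
    have hjη : j ≠ η := fun h => hns (h ▸ hj)
    exact le_iSup₂_of_le j hjη le_rfl
  have h2 : G η ≤ ⨆ j ∈ s, G j := le_top.trans hs
  exact (disjoint_of_le_iff_left_eq_bot h2).mp h1

end Graded



section Kill
variable {R : Type u} [CommRing R] {M : Type v} [AddCommGroup M] [Module R M]

/-- a submodule is killed near the prime `m` -/
def KilledAt (m : Ideal R) (N : Submodule R M) : Prop := ∃ s : R, s ∉ m ∧ ∀ g ∈ N, s • g = 0

theorem KilledAt.mono {m : Ideal R} {N N' : Submodule R M} (h : KilledAt m N) (hle : N' ≤ N) :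
    KilledAt m N' := by
  obtain ⟨s, hs, hk⟩ := h
  exact ⟨s, hs, fun g hg => hk g (hle hg)⟩

theorem killedAt_bot (m : Ideal R) [m.IsPrime] : KilledAt m (⊥ : Submodule R M) :=
  ⟨1, fun h => (Ideal.IsPrime.ne_top ‹_›) ((Ideal.eq_top_iff_one _).mpr h), fun g hg => by
    rw [(Submodule.mem_bot R).mp hg, smul_zero]⟩

/-- finitely many submodules killed near `m` are simultaneously killed -/
theorem killedAt_iSup_finset {ι : Type*} (m : Ideal R) [m.IsPrime] (s : Finset ι)
    (N : ι → Submodule R M) (h : ∀ i ∈ s, KilledAt m (N i)) : KilledAt m (⨆ i ∈ s, N i) := by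
  classical
  induction s using Finset.induction_on with
  | empty =>
    simp only [Finset.notMem_empty, iSup_false, iSup_bot]
    exact killedAt_bot m
  | insert a s has ih =>
    obtain ⟨s₁, hs₁, hk₁⟩ := h a (Finset.mem_insert_self _ _)
    obtain ⟨s₂, hs₂, hk₂⟩ := ih (fun i hi => h i (Finset.mem_insert_of_mem hi))
    refine ⟨s₁ * s₂, fun hmem => ?_, ?_⟩
    · rcases Ideal.IsPrime.mem_or_mem ‹_› hmem with h1 | h1
      · exact hs₁ h1
      · exact hs₂ h1
    · rw [Finset.iSup_insert]
      intro g hg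
      obtain ⟨g₁, hg₁, g₂, hg₂, rfl⟩ := Submodule.mem_sup.mp hg
      have e1 : (s₁ * s₂) • g₁ = 0 := by rw [mul_comm, mul_smul, hk₁ g₁ hg₁, smul_zero]
      have e2 : (s₁ * s₂) • g₂ = 0 := by rw [mul_smul, hk₂ g₂ hg₂, smul_zero]
      rw [smul_add, e1, e2, add_zero]

/-- a direct summand of a finite projective module is either killed near a prime, or contains an
element on which some linear form takes a value outside the prime -/
theorem dichotomy [Module.Finite R M] [Module.Projective R M] (m : Ideal R) [hm : m.IsPrime]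
    (N : Submodule R M) (p : M →ₗ[R] M) (hp1 : ∀ x, p x ∈ N) (hp2 : ∀ x ∈ N, p x = x) :
    KilledAt m N ∨ ∃ g ∈ N, ∃ l : M →ₗ[R] R, l g ∉ m := by
  by_cases h : ∃ g ∈ N, ∃ l : M →ₗ[R] R, l g ∉ m
  · exact Or.inr h
  left
  push Not at h
  have hfg : N.FG := by
    have : N = Submodule.map p ⊤ := by
      apply le_antisymm
      · intro x hx
        exact ⟨x, Submodule.mem_top, hp2 x hx⟩
      · rintro _ ⟨x, -, rfl⟩
        exact hp1 x
    rw [this]
    exact Module.Finite.fg_top.map p
  have hle : N ≤ m • N := by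
    intro g hg
    obtain ⟨s, hs⟩ := (Module.projective_def' (R := R) (P := M)).mp inferInstance
    have h1 : g = Finsupp.linearCombination R id (s g) := by
      have := congrArg (fun f => f g) hs
      exact this.symm
    rw [Finsupp.linearCombination_apply, Finsupp.sum] at h1
    have h2 : g = ∑ v ∈ (s g).support, (s g v) • p v := by
      conv_lhs => rw [← hp2 g hg, h1, map_sum]
      refine Finset.sum_congr rfl (fun v _ => ?_)
      rw [map_smul]
      rfl
    rw [h2]
    refine Submodule.sum_mem _ (fun v _ => ?_)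
    refine Submodule.smul_mem_smul ?_ (hp1 v)
    exact h g hg ((Finsupp.lapply v).comp s)
  obtain ⟨r, hr1, hr2⟩ := Submodule.exists_sub_one_mem_and_smul_eq_zero_of_fg_of_le_smul m N hfg hle
  refine ⟨r, fun hrm => ?_, hr2⟩
  apply hm.ne_top
  rw [Ideal.eq_top_iff_one]
  have : (1 : R) = r - (r - 1) := by ring
  rw [this]
  exact m.sub_mem hrm hr1

end Kill



section Tensor
variable {Γ : Type w} [AddCommMonoid Γ]
  {R : Type u} [CommRing R] {M : Type v} [AddCommGroup M] [Module R M] {k : ℕ}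

/-- the filtration induced on the `k`-th tensor power -/
def TF (k : ℕ) (F : Γ → Submodule R M) (γ : Γ) : Submodule R (⨂[R] _ : Fin k, M) :=
  ⨆ c : {c : Fin k → Γ // ∑ i, c i = γ},
    LinearMap.range (PiTensorProduct.map (R := R) (fun i => (F (c.1 i)).subtype))

theorem tprod_mem_TF (F : Γ → Submodule R M) (c : Fin k → Γ) (u : Fin k → M)
    (hu : ∀ i, u i ∈ F (c i)) : PiTensorProduct.tprod R u ∈ TF k F (∑ i, c i) := by
  refine Submodule.mem_iSup_of_mem ⟨c, rfl⟩ ?_
  refine ⟨PiTensorProduct.tprod R (fun i => (⟨u i, hu i⟩ : F (c i))), ?_⟩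
  rw [PiTensorProduct.map_tprod]
  rfl

theorem eq_zero_of_mem_TF (F : Γ → Submodule R M) (γ : Γ) (L : (⨂[R] _ : Fin k, M) →ₗ[R] R)
    (hL : ∀ c : Fin k → Γ, ∑ i, c i = γ → ∀ w : Fin k → M, (∀ i, w i ∈ F (c i)) →
      L (PiTensorProduct.tprod R w) = 0) :
    ∀ z ∈ TF k F γ, L z = 0 := by
  have hle : TF k F γ ≤ LinearMap.ker L := by
    refine iSup_le (fun c => ?_)
    rw [LinearMap.range_le_ker_iff]
    apply PiTensorProduct.ext
    ext w
    simp only [LinearMap.compMultilinearMap_apply, LinearMap.comp_apply,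
      PiTensorProduct.map_tprod, LinearMap.zero_apply]
    exact hL c.1 c.2 (fun i => (w i : M)) (fun i => (w i).2)
  intro z hz
  exact hle hz

/-- the product of linear forms, as a linear form on the tensor power -/
noncomputable def Lam (ν : Fin k → (M →ₗ[R] R)) : (⨂[R] _ : Fin k, M) →ₗ[R] R :=
  PiTensorProduct.lift ((MultilinearMap.mkPiAlgebra R (Fin k) R).compLinearMap ν)

theorem Lam_tprod (ν : Fin k → (M →ₗ[R] R)) (u : Fin k → M) :
    Lam ν (PiTensorProduct.tprod R u) = ∏ i, ν i (u i) := by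
  simp [Lam]

end Tensor


section Main
variable {Γ : Type w} [AddCommGroup Γ] [LinearOrder Γ] [IsOrderedAddMonoid Γ]
  {R : Type u} [CommRing R] {M : Type v} [AddCommGroup M] [Module R M]

/-- linear forms separate the points of a projective module -/
theorem eq_zero_of_forall_form [Module.Projective R M] (v : M)
    (h : ∀ ν : M →ₗ[R] R, ν v = 0) : v = 0 := by
  obtain ⟨s, hs⟩ := (Module.projective_def' (R := R) (P := M)).mp inferInstance
  have h1 : v = Finsupp.linearCombination R id (s v) := by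
    have := congrArg (fun f => f v) hs
    exact this.symm
  rw [Finsupp.linearCombination_apply, Finsupp.sum] at h1
  rw [h1]
  refine Finset.sum_eq_zero (fun w _ => ?_)
  have : s v w = 0 := h ((Finsupp.lapply w).comp s)
  rw [this, zero_smul]

/-- `F` is the filtration attached to the grading `G` -/
def IsSplit (F G : Γ → Submodule R M) : Prop :=
  DirectSum.IsInternal G ∧ ∀ γ, F γ = ⨆ η ∈ Set.Ici γ, G η

variable {F G : Γ → Submodule R M}

theorem IsSplit.le (h : IsSplit F G) {γ η : Γ} (hη : γ ≤ η) : G η ≤ F γ := by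
  rw [h.2 γ]
  exact le_iSup₂_of_le η hη le_rfl

theorem IsSplit.antitone (h : IsSplit F G) {γ δ : Γ} (hδ : γ ≤ δ) : F δ ≤ F γ := by
  rw [h.2 δ]
  exact iSup₂_le (fun η hη => h.le (hδ.trans hη))

theorem IsSplit.proj_eq_zero (h : IsSplit F G) {γ η : Γ} (hη : η < γ) {u : M} (hu : u ∈ F γ) :
    proj G h.1 η u = 0 := by
  have hle : F γ ≤ LinearMap.ker (proj G h.1 η) := by
    rw [h.2 γ]
    refine iSup₂_le (fun η' hη' => ?_)
    intro g hg
    rw [LinearMap.mem_ker]
    exact proj_of_mem_ne G h.1 hg (ne_of_gt (lt_of_lt_of_le hη hη'))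
  exact hle hu

theorem IsSplit.mem_of_proj_eq_zero (h : IsSplit F G) {γ : Γ} {u : M}
    (hu : ∀ η, η < γ → proj G h.1 η u = 0) : u ∈ F γ :=
  FiltTensor.mem_of_proj_eq_zero G h.1 (F γ) (Set.Ici γ) (fun _ hη => h.le hη) u
    (fun η hη => hu η (not_le.mp hη))

variable [Module.Finite R M]

/-- if all graded pieces above `μ` are killed near `m`, so is the filtration above `μ` -/
theorem IsSplit.exists_kill_above (h : IsSplit F G) (m : Ideal R) [m.IsPrime] (μ : Γ)
    (hk : ∀ η, μ < η → KilledAt m (G η)) :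
    ∃ s : R, s ∉ m ∧ ∀ δ, μ < δ → ∀ g ∈ F δ, s • g = 0 := by
  classical
  set S := (finite_support G h.1).toFinset with hS
  obtain ⟨s, hs, hks⟩ := killedAt_iSup_finset m (S.filter (fun η => μ < η)) G
    (fun η hη => hk η (Finset.mem_filter.mp hη).2)
  refine ⟨s, hs, fun δ hδ g hg => hks g ?_⟩
  have hle : F δ ≤ ⨆ i ∈ S.filter (fun η => μ < η), G i := by
    rw [h.2 δ]
    refine iSup₂_le (fun η hη => ?_)
    by_cases hbot : G η = ⊥
    · rw [hbot]; exact bot_le
    · refine le_iSup₂_of_le η ?_ le_rfl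
      rw [Finset.mem_filter, hS, Set.Finite.mem_toFinset]
      exact ⟨hbot, lt_of_lt_of_le hδ hη⟩
  exact hle hg

variable [Module.Projective R M]

/-- near a prime, either the whole module is killed or there is a top degree -/
theorem IsSplit.exists_top (h : IsSplit F G) (m : Ideal R) [m.IsPrime] :
    KilledAt m (⊤ : Submodule R M) ∨
    ∃ μ, (∃ y ∈ G μ, ∃ l : M →ₗ[R] R, l y ∉ m) ∧ ∀ η, μ < η → KilledAt m (G η) := by
  classical
  set S := (finite_support G h.1).toFinset with hS
  by_cases hemp : (S.filter (fun η => ¬ KilledAt m (G η))).Nonempty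
  · right
    set μ := (S.filter (fun η => ¬ KilledAt m (G η))).max' hemp with hμ
    have hμmem := Finset.max'_mem _ hemp
    rw [← hμ, Finset.mem_filter] at hμmem
    refine ⟨μ, ?_, fun η hη => ?_⟩
    · rcases dichotomy m (G μ) (proj G h.1 μ) (proj_mem G h.1 μ)
        (fun x hx => proj_of_mem G h.1 hx) with hkill | hex
      · exact absurd hkill hμmem.2
      · exact hex
    · by_contra hnk
      have hηS : η ∈ S.filter (fun η => ¬ KilledAt m (G η)) := by
        rw [Finset.mem_filter, hS, Set.Finite.mem_toFinset]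
        refine ⟨fun hbot => hnk ?_, hnk⟩
        rw [hbot]
        exact killedAt_bot m
      exact absurd (Finset.le_max' _ η hηS) (not_le.mpr hη)
  · left
    rw [Finset.not_nonempty_iff_eq_empty] at hemp
    have hall : ∀ η ∈ S, KilledAt m (G η) := by
      intro η hη
      by_contra hnk
      have : η ∈ S.filter (fun η => ¬ KilledAt m (G η)) := Finset.mem_filter.mpr ⟨hη, hnk⟩
      rw [hemp] at this
      exact absurd this (Finset.notMem_empty _)
    refine (killedAt_iSup_finset m S G hall).mono ?_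
    rw [← h.1.submodule_iSup_eq_top]
    refine iSup_le (fun η => ?_)
    by_cases hbot : G η = ⊥
    · rw [hbot]; exact bot_le
    · refine le_iSup₂_of_le η ?_ le_rfl
      rw [hS, Set.Finite.mem_toFinset]
      exact hbot

end Main

section Local
variable {Γ : Type w} [AddCommGroup Γ] [LinearOrder Γ] [IsOrderedAddMonoid Γ]
  {R : Type u} [CommRing R] {M : Type v} [AddCommGroup M] [Module R M]
  [Module.Finite R M] [Module.Projective R M]
  {F₁ G₁ F₂ G₂ : Γ → Submodule R M} {n : ℕ}

/-- a scalar killing one of the arguments kills the product of forms -/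
theorem mul_prod_eq_zero {k : ℕ} (s : R) (ν : Fin k → (M →ₗ[R] R)) (w : Fin k → M) (i : Fin k)
    (hi : s • w i = 0) : s * ∏ j, ν j (w j) = 0 := by
  obtain ⟨q, hq⟩ := Finset.dvd_prod_of_mem (fun j => ν j (w j)) (Finset.mem_univ i)
  have h1 : s * ν i (w i) = 0 := by
    rw [← smul_eq_mul, ← map_smul, hi, map_zero]
  rw [hq, ← mul_assoc, h1, zero_mul]

/-- Step I: the top degree of `F₂` near `m` is at most that of `F₁` -/
theorem killedAt_above (h₁ : IsSplit F₁ G₁) (h₂ : IsSplit F₂ G₂)
    (hT : ∀ γ, TF (n + 1) F₁ γ = TF (n + 1) F₂ γ) (m : Ideal R) [hm : m.IsPrime] (μ : Γ)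
    (hk : ∀ η, μ < η → KilledAt m (G₁ η)) : ∀ δ, μ < δ → KilledAt m (G₂ δ) := by
  intro δ hδ
  rcases dichotomy m (G₂ δ) (proj G₂ h₂.1 δ) (proj_mem G₂ h₂.1 δ)
    (fun x hx => proj_of_mem G₂ h₂.1 hx) with hkill | ⟨y, hy, l, hl⟩
  · exact hkill
  exfalso
  obtain ⟨s, hs, hks⟩ := h₁.exists_kill_above m μ hk
  have hz : PiTensorProduct.tprod R (fun _ : Fin (n + 1) => y) ∈
      TF (n + 1) F₁ (∑ _i : Fin (n + 1), δ) := by
    rw [hT]
    exact tprod_mem_TF F₂ (fun _ => δ) (fun _ => y) (fun _ => h₂.le le_rfl hy)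
  have hL := eq_zero_of_mem_TF F₁ (∑ _i : Fin (n + 1), δ) (s • Lam (fun _ : Fin (n + 1) => l))
    (fun c hc w hw => by
      rw [LinearMap.smul_apply, Lam_tprod, smul_eq_mul]
      have hex : ∃ i, μ < c i := by
        by_contra hcon
        push Not at hcon
        have h1 : ∑ i, c i ≤ ∑ _i : Fin (n + 1), μ := Finset.sum_le_sum (fun i _ => hcon i)
        have h2 : ∑ _i : Fin (n + 1), μ < ∑ _i : Fin (n + 1), δ :=
          Finset.sum_lt_sum_of_nonempty Finset.univ_nonempty (fun _ _ => hδ)
        rw [hc] at h1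
        exact absurd h1 (not_le.mpr h2)
      obtain ⟨i, hi⟩ := hex
      exact mul_prod_eq_zero s _ w i (hks (c i) hi (w i) (hw i))) _ hz
  rw [LinearMap.smul_apply, Lam_tprod, smul_eq_mul, Finset.prod_const] at hL
  have hmem : s * l y ^ (Finset.univ : Finset (Fin (n + 1))).card ∈ m := by
    rw [hL]; exact m.zero_mem
  rcases hm.mem_or_mem hmem with h | h
  · exact hs h
  · exact hl (hm.mem_of_pow_mem _ h)

/-- Step II: near each prime, `F₁ γ` is contained in `F₂ γ` -/
theorem exists_smul_mem (h₁ : IsSplit F₁ G₁) (h₂ : IsSplit F₂ G₂)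
    (hT : ∀ γ, TF (n + 1) F₁ γ = TF (n + 1) F₂ γ) (m : Ideal R) [hm : m.IsPrime] (γ : Γ)
    (x : M) (hx : x ∈ F₁ γ) : ∃ s : R, s ∉ m ∧ s • x ∈ F₂ γ := by
  rcases h₁.exists_top m with ⟨s, hs, hks⟩ | ⟨μ, ⟨y, hy, l, hl⟩, hk⟩
  · refine ⟨s, hs, ?_⟩
    rw [hks x Submodule.mem_top]
    exact (F₂ γ).zero_mem
  have hk₂ := killedAt_above h₁ h₂ hT m μ hk
  obtain ⟨s, hs, hks⟩ := h₂.exists_kill_above m μ hk₂
  refine ⟨s * l y ^ n, fun hmem => ?_, ?_⟩
  · rcases hm.mem_or_mem hmem with h | h
    · exact hs h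
    · rcases Nat.eq_zero_or_pos n with rfl | hn
      · rw [pow_zero] at h
        exact hm.ne_top ((Ideal.eq_top_iff_one _).mpr h)
      · exact hl (hm.mem_of_pow_mem _ h)
  refine h₂.mem_of_proj_eq_zero (fun η hη => ?_)
  apply eq_zero_of_forall_form (R := R)
  intro ν
  have hz : PiTensorProduct.tprod R (Fin.cons x (fun _ : Fin n => y) : Fin (n + 1) → M) ∈
      TF (n + 1) F₂ (∑ i : Fin (n + 1), (Fin.cons γ (fun _ : Fin n => μ) : Fin (n + 1) → Γ) i) := by
    rw [← hT]
    refine tprod_mem_TF F₁ _ _ (fun i => ?_)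
    refine Fin.cases ?_ (fun j => ?_) i
    · simpa using hx
    · simpa using h₁.le le_rfl hy
  have hL := eq_zero_of_mem_TF F₂ _
    (s • Lam (Fin.cons (ν.comp (proj G₂ h₂.1 η)) (fun _ : Fin n => l) :
      Fin (n + 1) → (M →ₗ[R] R)))
    (fun c hc w hw => by
      rw [LinearMap.smul_apply, Lam_tprod, smul_eq_mul]
      by_cases hex : ∃ j : Fin n, μ < c j.succ
      · obtain ⟨j, hj⟩ := hex
        exact mul_prod_eq_zero s _ w j.succ (hks (c j.succ) hj (w j.succ) (hw j.succ))
      · push Not at hex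
        have h0 : γ ≤ c 0 := by
          rw [Fin.sum_univ_succ, Fin.sum_univ_succ] at hc
          simp only [Fin.cons_zero, Fin.cons_succ] at hc
          have h1 : ∑ j : Fin n, c j.succ ≤ ∑ _j : Fin n, μ :=
            Finset.sum_le_sum (fun j _ => hex j)
          by_contra hlt
          push Not at hlt
          have : c 0 + ∑ j : Fin n, c j.succ < γ + ∑ _j : Fin n, μ := add_lt_add_of_lt_of_le hlt h1
          rw [hc] at this
          exact lt_irrefl _ this
        have hw0 : proj G₂ h₂.1 η (w 0) = 0 :=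
          h₂.proj_eq_zero hη (h₂.antitone h0 (hw 0))
        rw [Fin.prod_univ_succ]
        simp only [Fin.cons_zero, LinearMap.comp_apply, hw0, map_zero, zero_mul, mul_zero]) _ hz
  rw [LinearMap.smul_apply, Lam_tprod, smul_eq_mul, Fin.prod_univ_succ] at hL
  simp only [Fin.cons_zero, Fin.cons_succ, LinearMap.comp_apply, Finset.prod_const,
    Finset.card_univ, Fintype.card_fin] at hL
  rw [map_smul, map_smul, smul_eq_mul, mul_assoc, mul_comm (l y ^ n)]
  exact hL

/-- `F₁ ≤ F₂` -/
theorem le_of_TF_eq (h₁ : IsSplit F₁ G₁) (h₂ : IsSplit F₂ G₂)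
    (hT : ∀ γ, TF (n + 1) F₁ γ = TF (n + 1) F₂ γ) (γ : Γ) : F₁ γ ≤ F₂ γ := by
  intro x hx
  let I : Ideal R := (F₂ γ).comap (LinearMap.toSpanSingleton R M x)
  have hI : I = ⊤ := by
    by_contra hne
    obtain ⟨m, hm, hIm⟩ := Ideal.exists_le_maximal I hne
    haveI := hm.isPrime
    obtain ⟨s, hs, hsx⟩ := exists_smul_mem h₁ h₂ hT m γ x hx
    exact hs (hIm (show s ∈ I from by
      show LinearMap.toSpanSingleton R M x s ∈ F₂ γ
      simpa using hsx))
  have h1 : (1 : R) ∈ I := hI ▸ Submodule.mem_top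
  have h2 : LinearMap.toSpanSingleton R M x 1 ∈ F₂ γ := h1
  simpa using h2

theorem eq_of_TF_eq (h₁ : IsSplit F₁ G₁) (h₂ : IsSplit F₂ G₂)
    (hT : ∀ γ, TF (n + 1) F₁ γ = TF (n + 1) F₂ γ) : F₁ = F₂ :=
  funext fun γ => le_antisymm (le_of_TF_eq h₁ h₂ hT γ) (le_of_TF_eq h₂ h₁ (fun γ => (hT γ).symm) γ)

end Local


end Groth.Agent.Lib.Helper1.FiltTensor
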