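import Groth.Prelude.Def_ClSub2
import Groth.Agent.S2249
import Groth.Agent.Lib.Helper1.HHTools
set_option autoImplicit false
universe u
open AlgebraicGeometry CategoryTheory Limits Opposite TopologicalSpace

namespace Groth.Agent.Lib.Helper1

variable {X : Scheme.{u}} (I : X.IdealSheafData)

theorem toSubscheme_app (V : X.Opens) (a : Γ(X, V)) :
    (ClSub.toSubscheme I).app V a = (I.subschemeι.app V a : Γ(I.subscheme, I.subschemeι ⁻¹ᵁ V)) :=
  rfl

instance epi_toSubscheme : Epi (ClSub.toSubscheme I) := by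
  refine Preadditive.epi_of_cancel_zero _ fun {N} ψ hψ => ?_
  apply Scheme.Modules.hom_ext
  intro V
  ext a
  refine TopCat.Sheaf.eq_of_locally_eq' ⟨N.presheaf, N.isSheaf⟩
    (fun (W : {W : X.affineOpens // W.1 ≤ V}) => W.1.1) V (fun W => homOfLE W.2) ?_ _ _
    (fun W => ?_)
  · intro x hx
    obtain ⟨_, ⟨W, hW, rfl⟩, hxW, hWV⟩ :=
      X.isBasis_affineOpens.exists_subset_of_mem_open hx V.2
    exact Opens.mem_iSup.mpr ⟨⟨⟨W, hW⟩, hWV⟩, hxW⟩
  · change N.presheaf.map (homOfLE W.2).op (ψ.app V a) = N.presheaf.map (homOfLE W.2).op 0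
    rw [map_zero, hom_app_naturality]
    obtain ⟨b, hb⟩ := I.subschemeι_app_surjective W.1
      ((ClSub.quotMod I).presheaf.map (homOfLE W.2).op a)
    have h1 : (ClSub.toSubscheme I ≫ ψ).app W.1.1 b = 0 := by rw [hψ]; rfl
    rw [← hb]
    exact h1

theorem isQuasicoherent_quotMod : (ClSub.quotMod I).IsQuasicoherent :=
  haveI : Coh.IsQCoh (Coh.structureModule I.subscheme) :=
    isQuasicoherent_structureModule _
  Groth.Agent.S2249.result I.subschemeι (Coh.structureModule I.subscheme)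

theorem isQuasicoherent_idealMod : (ClSub.idealMod I).IsQuasicoherent :=
  Groth.Agent.Lib.Helper49.isQuasicoherent_kernel _ (isQuasicoherent_structureModule X)
    (isQuasicoherent_quotMod I)

instance mono_idealModι : Mono (ClSub.idealModι I) :=
  inferInstanceAs (Mono (kernel.ι (ClSub.toSubscheme I)))

/-- `0 ⟶ I ⟶ O_X ⟶ O_X / I ⟶ 0` -/
noncomputable def idealModComplex : ShortComplex X.Modules :=
  ShortComplex.mk (ClSub.idealModι I) (ClSub.toSubscheme I) (kernel.condition _)

theorem idealModComplex_shortExact : (idealModComplex I).ShortExact :=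
  ShortComplex.ShortExact.mk' (ShortComplex.exact_kernel (ClSub.toSubscheme I))
    (mono_idealModι I) (epi_toSubscheme I)

/-- If `H¹(X, I) = 0`, global functions on the closed subscheme lift to `X`. -/
theorem appTop_surjective_of_subsingleton_HH_one
    (h : Subsingleton (Coh.HH X (ClSub.idealMod I) 1)) :
    Function.Surjective I.subschemeι.appTop := by
  intro e
  obtain ⟨s, hs⟩ := exists_lift_sections_of_subsingleton_HH_one
    (idealModComplex_shortExact I) h (e : Γ(I.subscheme, I.subschemeι ⁻¹ᵁ ⊤))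
  exact ⟨s, hs⟩


/-- On a scheme, given two disjoint opens covering it, there is a global function restricting to
`1` on the first and `0` on the second. -/
theorem exists_section_of_disjoint_cover (Z : Scheme.{u}) (V1 V2 : Z.Opens)
    (hcov : V1 ⊔ V2 = ⊤) (hdisj : V1 ⊓ V2 = ⊥) :
    ∃ e : Γ(Z, ⊤), Z.presheaf.map (homOfLE (le_top : V1 ≤ ⊤)).op e = 1 ∧
      Z.presheaf.map (homOfLE (le_top : V2 ≤ ⊤)).op e = 0 := by
  let U : Bool → Z.Opens := fun b => if b then V1 else V2
  let sf : ∀ b : Bool, Γ(Z, U b) := fun b => if b then 1 else 0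
  have hsub : Subsingleton Γ(Z, V1 ⊓ V2) := by rw [hdisj]; infer_instance
  have hsub' : Subsingleton Γ(Z, V2 ⊓ V1) := by rw [inf_comm, hdisj]; infer_instance
  have hcompat : TopCat.Presheaf.IsCompatible Z.sheaf.1 U sf := by
    rintro (_ | _) (_ | _)
    · rfl
    · exact hsub'.elim _ _
    · exact hsub.elim _ _
    · rfl
  obtain ⟨e, he, -⟩ := Z.sheaf.existsUnique_gluing' U ⊤ (fun b => homOfLE le_top) (by
    rw [← hcov]
    exact sup_le (le_iSup U true) (le_iSup U false)) sf hcompat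
  exact ⟨e, he true, he false⟩


/-- Key lemma for Serre's criterion: a closed point in an open `U` has a neighbourhood of the
form `X_f ⊆ U`, if `H¹` of the ideal sheaf of `Uᶜ ∪ {x}` vanishes. -/
theorem exists_basicOpen_of_closed_point (X : Scheme.{u})
    (h : ∀ (I : X.Modules) (i : I ⟶ Coh.structureModule X), Mono i →
      Coh.IsQCoh I → Subsingleton (Coh.HH X I 1))
    (x : X) (hx : IsClosed ({x} : Set X)) (U : X.Opens) (hxU : x ∈ U) :
    ∃ f : Γ(X, ⊤), x ∈ X.basicOpen f ∧ X.basicOpen f ≤ U := by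
  let C : Closeds X := ⟨(U : Set X)ᶜ ∪ {x}, U.2.isClosed_compl.union hx⟩
  let I := Scheme.IdealSheafData.vanishingIdeal C
  have hrange : Set.range I.subschemeι = (U : Set X)ᶜ ∪ {x} := by
    rw [Scheme.IdealSheafData.range_subschemeι, Scheme.IdealSheafData.coe_support_vanishingIdeal]
    rfl
  have hsurj := appTop_surjective_of_subsingleton_HH_one I
    (h _ (ClSub.idealModι I) inferInstance (isQuasicoherent_idealMod I))
  let W : X.Opens := ⟨{x}ᶜ, hx.isOpen_compl⟩
  have hcov : I.subschemeι ⁻¹ᵁ U ⊔ I.subschemeι ⁻¹ᵁ W = ⊤ := by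
    rw [eq_top_iff]
    intro z _
    by_cases hz : I.subschemeι z ∈ U
    · exact Or.inl hz
    · refine Or.inr ?_
      change I.subschemeι z ∈ ({x} : Set X)ᶜ
      intro hzx
      exact hz (by rw [Set.mem_singleton_iff.mp hzx]; exact hxU)
  have hdisj : I.subschemeι ⁻¹ᵁ U ⊓ I.subschemeι ⁻¹ᵁ W = ⊥ := by
    rw [eq_bot_iff]
    rintro z ⟨hz1, hz2⟩
    have hz : I.subschemeι z ∈ (U : Set X)ᶜ ∪ {x} := hrange ▸ Set.mem_range_self z
    rcases hz with hz | hz
    · exact hz hz1
    · exact hz2 hz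
  obtain ⟨e, he1, he2⟩ := exists_section_of_disjoint_cover I.subscheme _ _ hcov hdisj
  obtain ⟨f, hf⟩ := hsurj e
  have hpre : I.subschemeι ⁻¹ᵁ X.basicOpen f = I.subscheme.basicOpen e := by
    rw [Scheme.preimage_basicOpen_top, hf]
  have hle1 : I.subschemeι ⁻¹ᵁ U ≤ I.subscheme.basicOpen e := by
    have := I.subscheme.basicOpen_res e (homOfLE (le_top : I.subschemeι ⁻¹ᵁ U ≤ ⊤)).op
    rw [he1, Scheme.basicOpen_one] at this
    rw [this]
    exact inf_le_right
  have hbot2 : I.subschemeι ⁻¹ᵁ W ⊓ I.subscheme.basicOpen e = ⊥ := by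
    have := I.subscheme.basicOpen_res e (homOfLE (le_top : I.subschemeι ⁻¹ᵁ W ≤ ⊤)).op
    rw [he2, Scheme.basicOpen_zero] at this
    exact this.symm
  refine ⟨f, ?_, ?_⟩
  · -- `x ∈ X_f`
    have hxr : x ∈ Set.range I.subschemeι := by rw [hrange]; exact Or.inr rfl
    obtain ⟨x', hx'⟩ := hxr
    have h1 : x' ∈ I.subschemeι ⁻¹ᵁ X.basicOpen f := by
      rw [hpre]
      refine hle1 ?_
      change I.subschemeι x' ∈ U
      rw [hx']; exact hxU
    rw [← hx']
    exact h1
  · -- `X_f ⊆ U`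
    intro z hz
    by_contra hzU
    have hzr : z ∈ Set.range I.subschemeι := by rw [hrange]; exact Or.inl hzU
    obtain ⟨z', hz'⟩ := hzr
    have h1 : z' ∈ I.subscheme.basicOpen e := by
      rw [← hpre]
      change I.subschemeι z' ∈ X.basicOpen f
      rw [hz']; exact hz
    have h2 : z' ∈ I.subschemeι ⁻¹ᵁ W := by
      change I.subschemeι z' ∈ ({x} : Set X)ᶜ
      rw [hz']
      intro hzx
      exact hzU (by rw [Set.mem_singleton_iff.mp hzx]; exact hxU)
    have h3 : z' ∈ (⊥ : I.subscheme.Opens) := hbot2 ▸ ⟨h2, h1⟩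
    exact h3

end Groth.Agent.Lib.Helper1
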