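import Groth.Prelude.Def_CohTop
import Mathlib.CategoryTheory.Sites.SheafCohomology.MayerVietoris
import Mathlib.Topology.Sheaves.MayerVietoris

/-!
# Vanishing via Mayer–Vietoris

For an abelian sheaf `F` on a topological space and opens `V`, `W`:
if `H^{n+1}(V) = H^{n+1}(W) = 0` and `H^n(V ∩ W) = 0` then `H^{n+1}(V ∪ W) = 0`.
Then an induction for finite unions of members of a family closed under intersections.
-/

set_option autoImplicit false
universe u
open CategoryTheory Limits Opposite TopologicalSpace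

namespace Groth.Agent.Lib.Helper1

variable {X : TopCat.{u}} (F : CohTop.Ab X)

theorem subsingleton_HU_sup (V W : Opens X) (n : ℕ)
    (hV : Subsingleton (CohTop.HU F (n + 1) V)) (hW : Subsingleton (CohTop.HU F (n + 1) W))
    (hVW : Subsingleton (CohTop.HU F n (V ⊓ W))) :
    Subsingleton (CohTop.HU F (n + 1) (V ⊔ W)) := by
  let S := Opens.mayerVietorisSquare V W
  have hex := (S.sequence_exact F n (n + 1) rfl).exact 2
  rw [ShortComplex.ab_exact_iff] at hex
  refine ⟨fun x y => ?_⟩
  have h0 : ∀ z : CohTop.HU F (n + 1) (V ⊔ W), z = 0 := by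
    intro z
    have hz : (S.toBiprod F (n + 1)) z = 0 := by
      have : Subsingleton ((F.H' (n + 1) S.X₂ ⊞ F.H' (n + 1) S.X₃ : AddCommGrpCat)) := by
        apply AddCommGrpCat.subsingleton_of_isZero
        have h2 : IsZero (F.H' (n + 1) S.X₂) :=
          @AddCommGrpCat.isZero_of_subsingleton (F.H' (n + 1) S.X₂) hV
        have h3 : IsZero (F.H' (n + 1) S.X₃) :=
          @AddCommGrpCat.isZero_of_subsingleton (F.H' (n + 1) S.X₃) hW
        exact (biprod_isZero_iff _ _).mpr ⟨h2, h3⟩
      exact Subsingleton.elim _ _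
    obtain ⟨w, hw⟩ := hex z hz
    have hw0 : w = 0 := @Subsingleton.elim _ hVW _ _
    rw [← hw, hw0]
    exact map_zero _
  rw [h0 x, h0 y]

/-- If `𝒜` is a family of opens closed under pairwise intersections all of whose members have
vanishing higher cohomology, then a union of `t + 1` members has vanishing cohomology in degrees
`≥ t + 1`. -/
theorem subsingleton_HU_iSup_fin (𝒜 : Set (Opens X)) (hinf : ∀ V ∈ 𝒜, ∀ W ∈ 𝒜, V ⊓ W ∈ 𝒜)
    (hvan : ∀ V ∈ 𝒜, ∀ q : ℕ, Subsingleton (CohTop.HU F (q + 1) V)) :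
    ∀ (t : ℕ) (U : Fin (t + 1) → Opens X), (∀ i, U i ∈ 𝒜) → ∀ n : ℕ, t + 1 ≤ n →
      Subsingleton (CohTop.HU F n (⨆ i, U i)) := by
  intro t
  induction t with
  | zero =>
    intro U hU n hn
    obtain ⟨q, rfl⟩ : ∃ q, n = q + 1 := ⟨n - 1, by omega⟩
    have : (⨆ i, U i) = U 0 := by
      apply le_antisymm
      · exact iSup_le fun i => by rw [Fin.fin_one_eq_zero i]
      · exact le_iSup U 0
    rw [this]
    exact hvan _ (hU 0) q
  | succ t ih =>
    intro U hU n hn
    obtain ⟨m, rfl⟩ : ∃ m, n = m + 1 := ⟨n - 1, by omega⟩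
    have hsplit : (⨆ i, U i) = (⨆ i : Fin (t + 1), U i.castSucc) ⊔ U (Fin.last _) := by
      apply le_antisymm
      · refine iSup_le fun i => ?_
        induction i using Fin.lastCases with
        | last => exact le_sup_right
        | cast j => exact le_sup_of_le_left (le_iSup (fun i : Fin (t + 1) => U i.castSucc) j)
      · exact sup_le (iSup_le fun i => le_iSup U i.castSucc) (le_iSup U _)
    rw [hsplit]
    refine subsingleton_HU_sup F _ _ m (ih _ (fun i => hU _) _ (by omega))
      (hvan _ (hU _) m) ?_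
    rw [iSup_inf_eq]
    exact ih _ (fun i => hinf _ (hU _) _ (hU _)) _ (by omega)

end Groth.Agent.Lib.Helper1
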