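import Mathlib.AlgebraicGeometry.Morphisms.Etale
import Mathlib.AlgebraicGeometry.Morphisms.FinitePresentation
import Mathlib.AlgebraicGeometry.Morphisms.Flat
import Mathlib.AlgebraicGeometry.Noetherian
import Mathlib.AlgebraicGeometry.Morphisms.Descent
import Mathlib.AlgebraicGeometry.Morphisms.UniversallyOpen
import Mathlib.AlgebraicGeometry.Morphisms.FlatDescent

set_option autoImplicit false
open CategoryTheory CategoryTheory.Limits AlgebraicGeometry Opposite TopologicalSpace
universe u

namespace Groth.Agent.Lib.Helper1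

/-- The source of a local isomorphism to a locally Noetherian scheme is locally Noetherian. -/
theorem isLocallyNoetherian_of_isLocalIso {T V : Scheme.{u}} (p : T ⟶ V) [IsLocalIso p]
    [IsLocallyNoetherian V] : IsLocallyNoetherian T := by
  choose U hxU hU using fun x : T => IsLocalIso.exists_isOpenImmersion (f := p) x
  have hcov : IsOpenCover U := by
    apply IsOpenCover.mk
    rw [eq_top_iff]
    intro x _
    exact Opens.mem_iSup.mpr ⟨x, hxU x⟩
  rw [isLocallyNoetherian_iff_openCover (T.openCoverOfIsOpenCover U hcov)]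
  intro x
  have : IsOpenImmersion ((U x).ι ≫ p) := hU x
  change IsLocallyNoetherian (U x : Scheme.{u})
  exact isLocallyNoetherian_of_isOpenImmersion ((U x).ι ≫ p)

theorem isNoetherianRing_of_fppf_surjective_of_isAffine {X Z : Scheme.{u}} [IsAffine Z]
    (f : X ⟶ Z) [Surjective f] [Flat f] [LocallyOfFinitePresentation f]
    [IsLocallyNoetherian X] : IsNoetherianRing Γ(Z, ⊤) := by
  obtain ⟨V : X.Opens, hV, e⟩ := f.isOpenMap.exists_opens_image_eq_of_prespectralSpace
    f.continuous (by simp) isOpen_univ isCompact_univ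
  have hVc : CompactSpace V := isCompact_iff_compactSpace.mp hV
  obtain ⟨T, p, hsurj, hP, hT⟩ :=
    (V : Scheme.{u}).exists_hom_isAffine_of_isZariskiLocalAtSource @IsLocalIso
  have : IsLocalIso p := hP
  have hTN : IsLocallyNoetherian T := isLocallyNoetherian_of_isLocalIso p
  let g : T ⟶ Z := p ≫ V.ι ≫ f
  have hpflat : Flat p := IsLocalIso.le_of_isZariskiLocalAtSource @Flat _ _ p hP
  have hgflat : Flat g := inferInstance
  have hgsurj : Surjective g := by
    constructor
    intro z
    have hz : z ∈ f.base '' (V : Set X) := e ▸ Set.mem_univ z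
    obtain ⟨x, hxV, rfl⟩ := hz
    obtain ⟨t, ht⟩ := hsurj.surj ⟨x, hxV⟩
    refine ⟨t, ?_⟩
    change (p ≫ V.ι ≫ f) t = _
    rw [Scheme.Hom.comp_apply, Scheme.Hom.comp_apply, ht]
    rfl
  have hff : g.appTop.hom.FaithfullyFlat :=
    (Flat.flat_and_surjective_iff_faithfullyFlat_of_isAffine g).mp ⟨hgflat, hgsurj⟩
  have hA : IsNoetherianRing Γ(T, ⊤) :=
    IsLocallyNoetherian.component_noetherian ⟨⊤, isAffineOpen_top T⟩
  algebraize [g.appTop.hom]
  have hA' : IsNoetherian Γ(T, ⊤) (TensorProduct Γ(Z, ⊤) Γ(T, ⊤) Γ(Z, ⊤)) :=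
    isNoetherian_of_linearEquiv (TensorProduct.AlgebraTensorModule.rid Γ(Z, ⊤) Γ(T, ⊤) Γ(T, ⊤)).symm
  exact Submodule.IsNoetherian.of_isNoetherian_tensorProduct_of_faithfullyFlat hA'

theorem isLocallyNoetherian_of_fppf_surjective {X Y : Scheme.{u}} (f : X ⟶ Y) [Surjective f] [Flat f]
    [LocallyOfFinitePresentation f] [IsLocallyNoetherian X] : IsLocallyNoetherian Y := by
  rw [isLocallyNoetherian_iff_of_affine_openCover Y.affineCover]
  intro i
  have : IsLocallyNoetherian (pullback f (Y.affineCover.f i)) :=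
    isLocallyNoetherian_of_isOpenImmersion (pullback.fst f (Y.affineCover.f i))
  exact isNoetherianRing_of_fppf_surjective_of_isAffine (pullback.snd f (Y.affineCover.f i))

end Groth.Agent.Lib.Helper1
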