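import Groth.Agent.S0012
import Groth.Agent.S0007
import Groth.Agent.S2249
import Groth.Agent.Lib.Helper49.QCohLocal
import Groth.Agent.Lib.Helper1.HHTools
set_option autoImplicit false
universe u
open AlgebraicGeometry CategoryTheory Limits Opposite TopologicalSpace Abelian

namespace Groth.Agent.Lib.Helper1

variable {X : Scheme.{u}}

attribute [local instance] Abelian.hasFiniteBiproducts


theorem ext_biproduct_eq_zero {ι : Type} [Fintype ι] (N : ι → X.Modules) (p : ℕ)
    (A : Sheaf (Opens.grothendieckTopology X) AddCommGrpCat.{u})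
    (h : ∀ i, Subsingleton (Ext A ((toAbF X).obj (N i)) p))
    (x : Ext A ((toAbF X).obj (⨁ N)) p) : x = 0 := by
  classical
  have h1 : 𝟙 ((toAbF X).obj (⨁ N)) =
      ∑ i, (toAbF X).map (biproduct.π N i) ≫ (toAbF X).map (biproduct.ι N i) := by
    have := congrArg (toAbF X).map (biproduct.total (f := N))
    rw [Functor.map_sum, CategoryTheory.Functor.map_id] at this
    simp only [Functor.map_comp] at this
    exact this.symm
  have h2 : x = x.comp (Ext.mk₀ (𝟙 _)) (add_zero p) := by simp
  rw [h2, h1, Ext.mk₀_sum, Ext.comp_sum]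
  refine Finset.sum_eq_zero fun i _ => ?_
  rw [← Ext.mk₀_comp_mk₀, ← Ext.comp_assoc_of_second_deg_zero]
  have h3 : x.comp (Ext.mk₀ ((toAbF X).map (biproduct.π N i))) (add_zero p) = 0 :=
    (h i).elim _ _
  rw [h3, Ext.zero_comp]

/-- vanishing of `Sheaf.H` (i.e. of Ext from the constant sheaf) on finite biproducts -/
theorem subsingleton_HH_biproduct {ι : Type} [Finite ι] (N : ι → X.Modules) (p : ℕ)
    (h : ∀ i, Subsingleton (Coh.HH X (N i) p)) : Subsingleton (Coh.HH X (⨁ N) p) := by
  have := Fintype.ofFinite ι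
  refine ⟨fun x y => ?_⟩
  exact (ext_biproduct_eq_zero N p _ h x).trans (ext_biproduct_eq_zero N p _ h y).symm


theorem mono_of_app_injective {F G : X.Modules} (φ : F ⟶ G)
    (h : ∀ U : X.Opens, Function.Injective (φ.app U)) : Mono φ := by
  apply Functor.mono_of_mono_map (Scheme.Modules.toPresheaf X)
  apply (config := { allowSynthFailures := true }) NatTrans.mono_of_mono_app
  intro U
  change Mono (φ.app U.unop)
  exact (AddCommGrpCat.mono_iff_injective _).mpr (h U.unop)

theorem isAffineHom_ι_of_inf (V : X.Opens)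
    (hd : ∀ W : X.Opens, IsAffineOpen W → IsAffineOpen (V ⊓ W)) : IsAffineHom V.ι := by
  refine ⟨fun U hU => ?_⟩
  rw [← Scheme.Hom.isAffineOpen_iff_of_isOpenImmersion V.ι, 
    Scheme.Hom.image_preimage_eq_opensRange_inf, Scheme.Opens.opensRange_ι]
  exact hd U hU

/-- the module `j_* (M|_V)` for an open `V` -/
noncomputable abbrev extRes (M : X.Modules) (V : X.Opens) : X.Modules :=
  (Scheme.Modules.pushforward V.ι).obj (M.restrict V.ι)

/-- the canonical map `M ⟶ ⨁ j_* (M|_V)` -/
noncomputable def toExtRes (M : X.Modules) {ι : Type} [Finite ι] (V : ι → X.Opens) :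
    M ⟶ ⨁ (fun k => extRes M (V k)) :=
  biproduct.lift fun k => (Scheme.Modules.restrictAdjunction (V k).ι).unit.app M

theorem mono_toExtRes (M : X.Modules) {ι : Type} [Finite ι] (V : ι → X.Opens)
    (hV : ⨆ k, V k = ⊤) : Mono (toExtRes M V) := by
  refine mono_of_app_injective _ fun U => ?_
  rw [injective_iff_map_eq_zero]
  intro s hs
  have h1 : ∀ k, M.presheaf.map (homOfLE ((V k).ι.image_preimage_le U)).op s = 0 := by
    intro k
    have h2 : (toExtRes M V ≫ biproduct.π _ k).app U s = 0 := by
      change (biproduct.π (fun k => extRes M (V k)) k).app U ((toExtRes M V).app U s) = 0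
      rw [hs, map_zero]
    rw [toExtRes, biproduct.lift_π] at h2
    exact h2
  refine TopCat.Sheaf.eq_of_locally_eq' ⟨M.presheaf, M.isSheaf⟩
    (fun k => (V k).ι ''ᵁ ((V k).ι ⁻¹ᵁ U)) U
    (fun k => homOfLE ((V k).ι.image_preimage_le U)) ?_ s 0 (fun k => ?_)
  · have : ∀ k, (V k).ι ''ᵁ ((V k).ι ⁻¹ᵁ U) = V k ⊓ U := fun k => by
      rw [Scheme.Hom.image_preimage_eq_opensRange_inf, Scheme.Opens.opensRange_ι]
    simp only [this]
    rw [← iSup_inf_eq, hV, top_inf_eq]
  · rw [map_zero]
    exact h1 k

theorem isQuasicoherent_biproduct {ι : Type} [Finite ι] (N : ι → X.Modules)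
    (h : ∀ k, (N k).IsQuasicoherent) : (⨁ N).IsQuasicoherent := by
  classical
  have := Fintype.ofFinite ι
  have h1 := Groth.Agent.Lib.Helper49.isQuasicoherent_finite_limit (Discrete.functor N)
    (fun j => h j.as)
  exact Groth.Agent.Lib.Helper49.isQuasicoherent_of_iso (biproduct.isoProduct N).symm h1

theorem isQuasicoherent_extRes (M : X.Modules) [M.IsQuasicoherent] (V : X.Opens)
    [IsAffineHom V.ι] : (extRes M V).IsQuasicoherent :=
  Groth.Agent.S2249.result V.ι (M.restrict V.ι)

theorem subsingleton_HH_extRes (M : X.Modules) [M.IsQuasicoherent] (V : X.Opens)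
    (hV : IsAffineOpen V) [IsAffineHom V.ι] (p : ℕ) (hp : 0 < p) :
    Subsingleton (Coh.HH X (extRes M V) p) := by
  obtain ⟨e⟩ := Groth.Agent.S0012.result V.ι (M.restrict V.ι) p
  have : IsAffine (V : Scheme.{u}) := hV
  have := Groth.Agent.S0007.result (V : Scheme.{u}) (M.restrict V.ι) p hp
  exact e.symm.toEquiv.subsingleton


/-- On a quasi-compact scheme with affine intersections of affine opens, every quasi-coherent
module embeds into a quasi-coherent module with vanishing higher cohomology. -/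
theorem exists_mono_acyclic (X : Scheme.{u}) [CompactSpace X]
    (hd : ∀ V W : X.Opens, IsAffineOpen V → IsAffineOpen W → IsAffineOpen (V ⊓ W))
    (M : X.Modules) [M.IsQuasicoherent] :
    ∃ (M' : X.Modules) (i : M ⟶ M'), Mono i ∧ M'.IsQuasicoherent ∧
      ∀ p : ℕ, 0 < p → Subsingleton (Coh.HH X M' p) := by
  obtain ⟨s, hs, hcov⟩ := (isCompact_iff_finite_and_eq_biUnion_affineOpens
    (X := X) (U := ⊤)).mp isCompact_univ
  have := hs.to_subtype
  obtain ⟨n, ⟨e⟩⟩ := Finite.exists_equiv_fin s
  let V : Fin n → X.Opens := fun k => ((e.symm k).1 : X.Opens)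
  have hVaff : ∀ k, IsAffineOpen (V k) := fun k => (e.symm k).1.2
  have hVcov : ⨆ k, V k = ⊤ := by
    rw [hcov]
    apply le_antisymm
    · refine iSup_le fun k => ?_
      exact le_iSup₂ (f := fun (i : X.affineOpens) (_ : i ∈ s) => (i : X.Opens))
        (e.symm k).1 (e.symm k).2
    · refine iSup₂_le fun i hi => ?_
      have : V (e ⟨i, hi⟩) = i := by simp [V]
      rw [← this]
      exact le_iSup V _
  have hVι : ∀ k, IsAffineHom (V k).ι := fun k =>
    isAffineHom_ι_of_inf (V k) (fun W hW => hd _ _ (hVaff k) hW)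
  refine ⟨_, toExtRes M V, mono_toExtRes M V hVcov, ?_, fun p hp => ?_⟩
  · exact isQuasicoherent_biproduct _ fun k => by
      have := hVι k
      exact isQuasicoherent_extRes M (V k)
  · exact subsingleton_HH_biproduct _ p fun k => by
      have := hVι k
      exact subsingleton_HH_extRes M (V k) (hVaff k) p hp

end Groth.Agent.Lib.Helper1
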