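import Groth.Agent.Lib.Helper1.AffineVanishing
import Groth.Agent.Lib.Helper1.MVVanishing
import Groth.Agent.Lib.Helper1.ShCohTop

/-!
# Cohomological dimension bounds for quasi-coherent modules on qcqs schemes

* `exists_vanishing_of_le_affine`: a quasi-compact open inside an affine open has bounded
  quasi-coherent cohomological dimension;
* `exists_vanishing_of_isCompact`: same for every quasi-compact open of a quasi-separated scheme.
-/

set_option autoImplicit false
universe u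
open CategoryTheory Limits Opposite TopologicalSpace AlgebraicGeometry

namespace Groth.Agent.Lib.Helper1

variable {X : Scheme.{u}}

theorem exists_vanishing_of_le_affine (U : X.Opens) (hU : IsAffineOpen U) (Y : X.Opens)
    (hY : IsCompact (Y : Set X)) (hYU : Y ≤ U) :
    ∃ d : ℕ, ∀ (M : X.Modules), M.IsQuasicoherent → ∀ p : ℕ, d ≤ p →
      Subsingleton (CohTop.HU (X := X.toTopCat) (Coh.toAb M) p Y) := by
  have hpt : ∀ x : Y, ∃ f : Γ(X, U), X.basicOpen f ≤ Y ∧ (x : X) ∈ X.basicOpen f :=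
    fun x => hU.exists_basicOpen_le x (hYU x.2)
  choose f hfY hxf using hpt
  obtain ⟨t, ht⟩ := hY.elim_finite_subcover (fun x : Y => (X.basicOpen (f x) : Set X))
    (fun x => (X.basicOpen (f x)).isOpen)
    (fun y hy => Set.mem_iUnion.mpr ⟨⟨y, hy⟩, hxf ⟨y, hy⟩⟩)
  let e := t.equivFin
  have hsup : (⨆ i : Fin t.card, X.basicOpen (f (e.symm i).1)) = Y := by
    apply le_antisymm
    · exact iSup_le fun i => hfY _
    · intro y hy
      obtain ⟨x, hx⟩ := Set.mem_iUnion.mp (ht hy)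
      obtain ⟨hxt, hyx⟩ := Set.mem_iUnion.mp hx
      refine Opens.mem_iSup.mpr ⟨e ⟨x, hxt⟩, ?_⟩
      rw [Equiv.symm_apply_apply]
      exact hyx
  refine ⟨t.card + 1, fun M hM p hp => ?_⟩
  rcases Nat.eq_zero_or_pos t.card with h0 | hpos
  · -- `Y = ⊥`
    have hbot : Y = ⊥ := by
      refine hsup.symm.trans ?_
      have : IsEmpty (Fin t.card) := by rw [h0]; infer_instance
      exact iSup_of_empty _
    obtain ⟨q, rfl⟩ : ∃ q, p = q + 1 := ⟨p - 1, by omega⟩
    rw [hbot]
    exact subsingleton_HU_of_isAffineOpen M ⊥ (isAffineOpen_bot X) q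
  · obtain ⟨k, hk⟩ : ∃ k, t.card = k + 1 := ⟨t.card - 1, by omega⟩
    have h := subsingleton_HU_iSup_fin (X := X.toTopCat) (Coh.toAb M)
      {V | ∃ g : Γ(X, U), V = X.basicOpen g}
      (by
        rintro _ ⟨g, rfl⟩ _ ⟨g', rfl⟩
        exact ⟨g * g', (X.basicOpen_mul g g').symm⟩)
      (by
        rintro _ ⟨g, rfl⟩ q
        exact subsingleton_HU_of_isAffineOpen M _ (hU.basicOpen g) q)
      k (fun i => X.basicOpen (f (e.symm (Fin.cast hk.symm i)).1)) (fun i => ⟨_, rfl⟩) p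
      (by omega)
    have hsup' : (⨆ i : Fin (k + 1), X.basicOpen (f (e.symm (Fin.cast hk.symm i)).1)) = Y := by
      refine Eq.trans ?_ hsup
      exact (finCongr hk.symm).iSup_comp (g := fun i => X.basicOpen (f (e.symm i).1))
    rw [hsup'] at h
    exact h

theorem exists_vanishing_of_isCompact [QuasiSeparatedSpace X] (S : X.Opens)
    (hS : IsCompact (S : Set X)) :
    ∃ d : ℕ, ∀ (M : X.Modules), M.IsQuasicoherent → ∀ p : ℕ, d ≤ p →
      Subsingleton (CohTop.HU (X := X.toTopCat) (Coh.toAb M) p S) := by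
  refine compact_open_induction_on (P := fun S : X.Opens => ∃ d : ℕ, ∀ (M : X.Modules),
    M.IsQuasicoherent → ∀ p : ℕ, d ≤ p →
      Subsingleton (CohTop.HU (X := X.toTopCat) (Coh.toAb M) p S)) S hS ?_ ?_
  · refine ⟨1, fun M hM p hp => ?_⟩
    obtain ⟨q, rfl⟩ : ∃ q, p = q + 1 := ⟨p - 1, by omega⟩
    exact subsingleton_HU_of_isAffineOpen M ⊥ (isAffineOpen_bot X) q
  · rintro S hS U ⟨dS, hdS⟩
    have hSU : IsCompact ((S ⊓ U.1 : X.Opens) : Set X) :=
      QuasiSeparatedSpace.inter_isCompact _ _ S.isOpen hS U.1.isOpen U.2.isCompact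
    obtain ⟨d', hd'⟩ := exists_vanishing_of_le_affine U.1 U.2 (S ⊓ U.1) hSU inf_le_right
    refine ⟨max dS (d' + 1), fun M hM p hp => ?_⟩
    obtain ⟨m, rfl⟩ : ∃ m, p = m + 1 := ⟨p - 1, by omega⟩
    exact subsingleton_HU_sup (X := X.toTopCat) (Coh.toAb M) S U.1 m
      (hdS M hM _ (by omega)) (subsingleton_HU_of_isAffineOpen M U.1 U.2 m)
      (hd' M hM _ (by omega))

/-- A quasi-compact quasi-separated scheme has finite quasi-coherent cohomological dimension. -/
theorem exists_vanishing_qcqs (X : Scheme.{u}) [CompactSpace X] [QuasiSeparatedSpace X] :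
    ∃ d : ℕ, ∀ (M : X.Modules), M.IsQuasicoherent → ∀ p : ℕ, d ≤ p →
      Subsingleton (Coh.HH X M p) := by
  obtain ⟨d, hd⟩ := exists_vanishing_of_isCompact (X := X) ⊤ isCompact_univ
  refine ⟨d, fun M hM p hp => ?_⟩
  exact @Equiv.subsingleton _ _ (HUTopEquivH (Coh.toAb M) p).symm.toEquiv (hd M hM p hp)

/-! ### Relative versions: intersecting with a "relatively affine" open `Z` -/

/-- Version of `exists_vanishing_of_le_affine` uniform in an auxiliary open `Z` whose intersection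
with every basic open of `U` is affine. -/
theorem exists_vanishing_of_le_affine_inter (U : X.Opens) (hU : IsAffineOpen U) (Y : X.Opens)
    (hY : IsCompact (Y : Set X)) (hYU : Y ≤ U) :
    ∃ d : ℕ, ∀ (Z : X.Opens), (∀ g : Γ(X, U), IsAffineOpen (X.basicOpen g ⊓ Z)) →
      ∀ (M : X.Modules), M.IsQuasicoherent → ∀ p : ℕ, d ≤ p →
      Subsingleton (CohTop.HU (X := X.toTopCat) (Coh.toAb M) p (Y ⊓ Z)) := by
  have hpt : ∀ x : Y, ∃ f : Γ(X, U), X.basicOpen f ≤ Y ∧ (x : X) ∈ X.basicOpen f :=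
    fun x => hU.exists_basicOpen_le x (hYU x.2)
  choose f hfY hxf using hpt
  obtain ⟨t, ht⟩ := hY.elim_finite_subcover (fun x : Y => (X.basicOpen (f x) : Set X))
    (fun x => (X.basicOpen (f x)).isOpen)
    (fun y hy => Set.mem_iUnion.mpr ⟨⟨y, hy⟩, hxf ⟨y, hy⟩⟩)
  let e := t.equivFin
  have hsup : (⨆ i : Fin t.card, X.basicOpen (f (e.symm i).1)) = Y := by
    apply le_antisymm
    · exact iSup_le fun i => hfY _
    · intro y hy
      obtain ⟨x, hx⟩ := Set.mem_iUnion.mp (ht hy)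
      obtain ⟨hxt, hyx⟩ := Set.mem_iUnion.mp hx
      refine Opens.mem_iSup.mpr ⟨e ⟨x, hxt⟩, ?_⟩
      rw [Equiv.symm_apply_apply]
      exact hyx
  refine ⟨t.card + 1, fun Z hZ M hM p hp => ?_⟩
  rcases Nat.eq_zero_or_pos t.card with h0 | hpos
  · have hbot : Y = ⊥ := by
      refine hsup.symm.trans ?_
      have : IsEmpty (Fin t.card) := by rw [h0]; infer_instance
      exact iSup_of_empty _
    obtain ⟨q, rfl⟩ : ∃ q, p = q + 1 := ⟨p - 1, by omega⟩
    rw [hbot, bot_inf_eq]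
    exact subsingleton_HU_of_isAffineOpen M ⊥ (isAffineOpen_bot X) q
  · obtain ⟨k, hk⟩ : ∃ k, t.card = k + 1 := ⟨t.card - 1, by omega⟩
    have h := subsingleton_HU_iSup_fin (X := X.toTopCat) (Coh.toAb M)
      {V | ∃ g : Γ(X, U), V = X.basicOpen g ⊓ Z}
      (by
        rintro _ ⟨g, rfl⟩ _ ⟨g', rfl⟩
        refine ⟨g * g', ?_⟩
        rw [X.basicOpen_mul]
        ext x
        simp only [Opens.coe_inf, Set.mem_inter_iff, SetLike.mem_coe]
        tauto)
      (by
        rintro _ ⟨g, rfl⟩ q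
        exact subsingleton_HU_of_isAffineOpen M _ (hZ g) q)
      k (fun i => X.basicOpen (f (e.symm (Fin.cast hk.symm i)).1) ⊓ Z) (fun i => ⟨_, rfl⟩) p
      (by omega)
    have hsup' : (⨆ i : Fin (k + 1), X.basicOpen (f (e.symm (Fin.cast hk.symm i)).1) ⊓ Z) =
        Y ⊓ Z := by
      rw [← iSup_inf_eq]
      congr 1
      refine Eq.trans ?_ hsup
      exact (finCongr hk.symm).iSup_comp (g := fun i => X.basicOpen (f (e.symm i).1))
    rw [hsup'] at h
    exact h

/-- Version of `exists_vanishing_of_isCompact` for a quasi-compact open `S` inside a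
quasi-separated open `T`, uniform in an auxiliary open `Z` whose intersection with every affine open
contained in `T` is affine. -/
theorem exists_vanishing_of_isCompact_inter (T : X.Opens) (hT : IsQuasiSeparated (T : Set X))
    (S : X.Opens) (hS : IsCompact (S : Set X)) (hST : S ≤ T) :
    ∃ d : ℕ, ∀ (Z : X.Opens), (∀ U : X.Opens, IsAffineOpen U → U ≤ T → IsAffineOpen (U ⊓ Z)) →
      ∀ (M : X.Modules), M.IsQuasicoherent → ∀ p : ℕ, d ≤ p →
      Subsingleton (CohTop.HU (X := X.toTopCat) (Coh.toAb M) p (S ⊓ Z)) := by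
  refine compact_open_induction_on (P := fun S : X.Opens => S ≤ T → ∃ d : ℕ, ∀ (Z : X.Opens),
    (∀ U : X.Opens, IsAffineOpen U → U ≤ T → IsAffineOpen (U ⊓ Z)) → ∀ (M : X.Modules),
    M.IsQuasicoherent → ∀ p : ℕ, d ≤ p →
      Subsingleton (CohTop.HU (X := X.toTopCat) (Coh.toAb M) p (S ⊓ Z))) S hS ?_ ?_ hST
  · refine fun _ => ⟨1, fun Z hZ M hM p hp => ?_⟩
    obtain ⟨q, rfl⟩ : ∃ q, p = q + 1 := ⟨p - 1, by omega⟩
    rw [bot_inf_eq]
    exact subsingleton_HU_of_isAffineOpen M ⊥ (isAffineOpen_bot X) q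
  · rintro S hS U hP hSUT
    have hST' : S ≤ T := le_sup_left.trans hSUT
    have hUT : U.1 ≤ T := le_sup_right.trans hSUT
    obtain ⟨dS, hdS⟩ := hP hST'
    have hSU : IsCompact ((S ⊓ U.1 : X.Opens) : Set X) :=
      hT _ _ hST' S.isOpen hS hUT U.1.isOpen U.2.isCompact
    obtain ⟨d', hd'⟩ := exists_vanishing_of_le_affine_inter U.1 U.2 (S ⊓ U.1) hSU inf_le_right
    refine ⟨max dS (d' + 1), fun Z hZ M hM p hp => ?_⟩
    obtain ⟨m, rfl⟩ : ∃ m, p = m + 1 := ⟨p - 1, by omega⟩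
    have h := subsingleton_HU_sup (X := X.toTopCat) (Coh.toAb M) (S ⊓ Z) (U.1 ⊓ Z) m
      (hdS Z hZ M hM _ (by omega))
      (subsingleton_HU_of_isAffineOpen M _ (hZ U.1 U.2 hUT) m)
      (by
        have e : (S ⊓ Z) ⊓ (U.1 ⊓ Z) = (S ⊓ U.1) ⊓ Z := by
          ext x
          simp only [Opens.coe_inf, Set.mem_inter_iff, SetLike.mem_coe]
          tauto
        rw [e]
        exact hd' Z (fun g => hZ _ (U.2.basicOpen g) ((X.basicOpen_le g).trans hUT)) M hM _
          (by omega))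
    rw [← inf_sup_right] at h
    exact h

end Groth.Agent.Lib.Helper1
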