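import Groth.Agent.Lib.Helper1.AffineAndDescent
import Mathlib.RingTheory.QuasiFinite.Basic
import Mathlib.RingTheory.RingHom.QuasiFinite
import Mathlib.AlgebraicGeometry.Morphisms.LocalFlatDescent

set_option autoImplicit false
open CategoryTheory CategoryTheory.Limits AlgebraicGeometry Opposite MorphismProperty
universe u
open TensorProduct

namespace Groth.Agent.Lib.Helper1

theorem quasiFinite_of_quasiFinite_tensorProduct_of_faithfullyFlat
    {R S T : Type*} [CommRing R] [CommRing S] [CommRing T] [Algebra R S] [Algebra R T]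
    [Module.FaithfullyFlat R S] [Algebra.QuasiFinite S (S ⊗[R] T)] :
    Algebra.QuasiFinite R T := by
  constructor
  intro P hP
  -- B := κ(P) ⊗[R] S is nontrivial
  let B := P.ResidueField ⊗[R] S
  have hB : Nontrivial B := inferInstanceAs (Nontrivial (P.ResidueField ⊗[R] S))
  obtain ⟨m, hm⟩ := Ideal.exists_maximal B
  let K := B ⧸ m
  let : Field K := Ideal.Quotient.field m
  let algSK : Algebra S K :=
    ((Ideal.Quotient.mk m).comp Algebra.TensorProduct.includeRight.toRingHom).toAlgebra
  have tower1 : IsScalarTower R P.ResidueField K := inferInstance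
  have tower2 : IsScalarTower R S K := by
    refine IsScalarTower.of_algebraMap_eq fun r => ?_
    rw [IsScalarTower.algebraMap_apply R P.ResidueField K, IsScalarTower.algebraMap_apply P.ResidueField B K]
    change _ = (Ideal.Quotient.mk m) (Algebra.TensorProduct.includeRight (algebraMap R S r))
    congr 1
    simp [B, Algebra.algebraMap_eq_smul_one, Algebra.TensorProduct.one_def]
  have h1 : Algebra.QuasiFinite K (K ⊗[S] (S ⊗[R] T)) := inferInstance
  have h2 : Module.Finite K (K ⊗[S] (S ⊗[R] T)) := Module.Finite.of_quasiFinite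
  let e1 : K ⊗[S] (S ⊗[R] T) ≃ₗ[K] K ⊗[R] T := AlgebraTensorModule.cancelBaseChange R S K K T
  let e2 : K ⊗[P.ResidueField] (P.ResidueField ⊗[R] T) ≃ₗ[K] K ⊗[R] T :=
    AlgebraTensorModule.cancelBaseChange R P.ResidueField K K T
  have h3 : Module.Finite K (K ⊗[P.ResidueField] (P.ResidueField ⊗[R] T)) :=
    Module.Finite.equiv (e1.trans e2.symm)
  exact Module.Finite.of_finite_tensorProduct_of_faithfullyFlat K

theorem quasiFinite_codescendsAlong_faithfullyFlat :
    RingHom.CodescendsAlong RingHom.QuasiFinite RingHom.FaithfullyFlat := by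
  refine .mk _ RingHom.QuasiFinite.respectsIso fun R S T _ _ _ _ _ h h' ↦ ?_
  rw [RingHom.quasiFinite_algebraMap] at h' ⊢
  rw [RingHom.faithfullyFlat_algebraMap_iff] at h
  exact quasiFinite_of_quasiFinite_tensorProduct_of_faithfullyFlat (S := S)

theorem descendsAlong_locallyQuasiFinite_fpqc :
    MorphismProperty.DescendsAlong @LocallyQuasiFinite
      (@Surjective ⊓ @Flat ⊓ @QuasiCompact : MorphismProperty Scheme.{u}) :=
  HasRingHomProperty.descendsAlong_flat quasiFinite_codescendsAlong_faithfullyFlat

end Groth.Agent.Lib.Helper1
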